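import Mathlib.RingTheory.AlgebraicIndependent.Adjoin
import Mathlib.RingTheory.AlgebraicIndependent.TranscendenceBasis
import Mathlib.RingTheory.Localization.FractionRing
import Mathlib.RingTheory.MvPolynomial.Basic

/-!
# Rational function fields
-/

universe u v

open Cardinal

namespace Groth.Agent.Lib.Rat85

noncomputable section

variable (k : Type u) [Field k]

/-- A field generated by finitely many algebraically independent elements. -/
def RatGen (F : Type v) [Field F] [Algebra k F] : Prop :=
  ∃ (n : ℕ) (x : Fin n → F), AlgebraicIndependent k x ∧ IntermediateField.adjoin k (Set.range x) = ⊤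

variable {k}

theorem RatGen.exists_equiv {F : Type v} [Field F] [Algebra k F] (h : RatGen k F) :
    ∃ n : ℕ, Nonempty (FractionRing (MvPolynomial (Fin n) k) ≃ₐ[k] F) := by
  obtain ⟨n, x, hx, hgen⟩ := h
  exact ⟨n, ⟨hx.aevalEquivField.trans ((IntermediateField.equivOfEq hgen).trans IntermediateField.topEquiv)⟩⟩

theorem RatGen.of_equiv {F F' : Type v} [Field F] [Algebra k F] [Field F'] [Algebra k F'] (e : F ≃ₐ[k] F')
    (h : RatGen k F) : RatGen k F' := by
  obtain ⟨n, x, hx, hgen⟩ := h
  refine ⟨n, e ∘ x, hx.map' (f := e.toAlgHom) e.injective, ?_⟩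
  rw [Set.range_comp, show (e : F → F') = (e.toAlgHom : F →ₐ[k] F') from rfl, ← IntermediateField.adjoin_map, hgen,
    ← AlgHom.fieldRange_eq_map, AlgHom.fieldRange_eq_top.mpr e.surjective]

/-- The trivial case. -/
theorem RatGen.of_bot {F : Type v} [Field F] [Algebra k F] (h : ∀ f : F, f ∈ (algebraMap k F).range) :
    RatGen k F :=
  ⟨0, Fin.elim0, algebraicIndependent_empty_type, eq_top_iff.mpr fun f _ => by
    obtain ⟨c, rfl⟩ := h f
    exact IntermediateField.algebraMap_mem _ c⟩

/-- Adjoining a transcendental element. -/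
theorem RatGen.adjoin {F : Type v} [Field F] [Algebra k F] (L : IntermediateField k F) (hL : RatGen k L) (f : F)
    (hf : Transcendental L f) (hgen : IntermediateField.adjoin k (insert f (L : Set F)) = ⊤) : RatGen k F := by
  obtain ⟨n, x, hx, hxgen⟩ := hL
  let y : Fin n → F := fun i => (x i : F)
  have hy : AlgebraicIndependent k y := hx.map' (f := L.val) L.val.injective
  have hadj : IntermediateField.adjoin k (Set.range y) = L := by
    have h := congrArg (IntermediateField.map L.val) hxgen
    rw [IntermediateField.adjoin_map, ← AlgHom.fieldRange_eq_map, IntermediateField.fieldRange_val, ← Set.range_comp] at h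
    exact h
  have hopt : AlgebraicIndependent k (fun o : Option (Fin n) => o.elim f y) := by
    rw [hy.option_iff_transcendental]
    intro halg
    refine hf ?_
    obtain ⟨p, hp, hp0⟩ := halg
    have hle : Algebra.adjoin k (Set.range y) ≤ L.toSubalgebra :=
      Algebra.adjoin_le (by rintro _ ⟨i, rfl⟩; exact (x i).2)
    refine ⟨p.map (Subalgebra.inclusion hle).toRingHom, fun h => hp ?_, ?_⟩
    · exact Polynomial.map_injective _ (Subalgebra.inclusion_injective hle) (by rw [Polynomial.map_zero]; exact h)
    · rw [Polynomial.aeval_def, Polynomial.eval₂_map]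
      exact hp0
  let e : Fin (n + 1) ≃ Option (Fin n) := finSuccEquiv n
  refine ⟨n + 1, fun i => (e i).elim f y, hopt.comp e e.injective, ?_⟩
  rw [show (fun i => (e i).elim f y) = (fun o : Option (Fin n) => o.elim f y) ∘ e from rfl,
    e.surjective.range_comp, eq_top_iff, ← hgen, IntermediateField.adjoin_le_iff]
  intro a ha
  rcases ha with rfl | ha
  · exact IntermediateField.subset_adjoin _ _ ⟨none, rfl⟩
  · have : a ∈ IntermediateField.adjoin k (Set.range y) := hadj.symm ▸ ha
    refine IntermediateField.adjoin.mono k _ _ ?_ this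
    rintro _ ⟨i, rfl⟩
    exact ⟨some i, rfl⟩

/-- A transcendental element increases the transcendence degree. -/
theorem trdeg_lt_of_transcendental {F : Type v} [Field F] [Algebra k F] (L : IntermediateField k F) (f : F)
    (hf : Transcendental L f) (hfin : Algebra.trdeg k F < ℵ₀) : Algebra.trdeg k L < Algebra.trdeg k F := by
  have : Algebra.Transcendental L F := ⟨⟨f, hf⟩⟩
  have h1 := trdeg_pos (R := L) (A := F)
  have h := trdeg_add_eq k L (A := F)
  have hL : Algebra.trdeg k L < ℵ₀ := lt_of_le_of_lt (trdeg_le_of_injective L.val L.val.injective) hfin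
  obtain ⟨a, ha⟩ := Cardinal.lt_aleph0.mp hL
  obtain ⟨b, hb⟩ := Cardinal.lt_aleph0.mp (lt_of_le_of_lt (h ▸ le_add_self) hfin : Algebra.trdeg L F < ℵ₀)
  rw [hb] at h1
  rw [← h, ha, hb]
  exact_mod_cast Nat.lt_add_of_pos_right (by exact_mod_cast h1)

end

end Groth.Agent.Lib.Rat85
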