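import Groth.Agent.Lib.Rat85.Solv
import Groth.Agent.Lib.Dyn85.Solvable
import Groth.Agent.Lib.Dyn85.Act
import Groth.Agent.H1.Classical.Apply

/-!
# Cocharacters of tori, on points
-/

universe u v

namespace Groth.Agent.Lib.Rat85

open Module WithConv LaurentPolynomial TensorProduct
open Groth.Agent.H1.Classical Groth.Agent.H1.Classical.Kolchin Groth.Agent.H1.Classical.Torus
open Groth.Agent.Lib.Dyn85

set_option linter.style.haveILetI false
attribute [-simp] LaurentPolynomial.single_eq_C_mul_T

noncomputable section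

variable {k : Type u} [Field k] [IsAlgClosed k]

/-- Laurent polynomials as functions on units. -/
def evU : k[T;T⁻¹] →ₐ[k] (kˣ → k) where
  toFun z x := evR (Algebra.ofId k k) x z
  map_one' := funext fun x => map_one _
  map_mul' _ _ := funext fun x => map_mul _ _ _
  map_zero' := funext fun x => map_zero _
  map_add' _ _ := funext fun x => map_add _ _ _
  commutes' c := funext fun x => (evR (Algebra.ofId k k) x).commutes c

theorem evU_single (a : ℤ) (c : k) (x : kˣ) : evU (AddMonoidAlgebra.single a c) x = c * (x : k) ^ a := by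
  show evR _ x _ = _
  rw [evR_single, Units.val_zpow_eq_zpow_val]
  rfl

theorem evU_injective : Function.Injective (evU (k := k)) := by
  classical
  rw [injective_iff_map_eq_zero]
  intro z hz
  refine LaurentPolynomial.ext fun a => ?_
  by_contra ha
  have ha' : a ∈ z.coeff.support := Finsupp.mem_support_iff.mpr (by simpa using ha)
  refine Finsupp.mem_support_iff.mp ha' (Solv.coeff_eq_zero_of_forall_units z.coeff.support (fun b => z.coeff b)
    (fun x => ?_) a ha')
  have h := congrFun hz x
  rw [Pi.zero_apply] at h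
  refine Eq.trans ?_ h
  conv_rhs => rw [← AddMonoidAlgebra.sum_coeff_single z, Finsupp.sum, map_sum, Finset.sum_apply]
  exact Finset.sum_congr rfl fun b _ => by rw [evU_single, mul_comm]

/-- A point of the tensor square is a pair of units. -/
theorem eq_lift (χ : k[T;T⁻¹] ⊗[k] k[T;T⁻¹] →ₐ[k] k) :
    ∃ x y : kˣ, χ = Algebra.TensorProduct.lift (evR (Algebra.ofId k k) x) (evR (Algebra.ofId k k) y)
      fun _ _ => Commute.all _ _ := by
  have key : ∀ φ : k[T;T⁻¹] →ₐ[k] k, φ = evR (Algebra.ofId k k) (Units.map (φ : k[T;T⁻¹] →* k) (Tu k)) := fun φ =>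
    laurent_hom_ext fun a c => by
      rw [evR_single, ← map_zpow, Units.coe_map, Tu_zpow]
      show φ _ = c * φ _
      rw [← smul_eq_mul, ← map_smul]
      congr 1
      simp [LaurentPolynomial.T]
  refine ⟨Units.map ((χ.comp Algebra.TensorProduct.includeLeft : k[T;T⁻¹] →ₐ[k] k) : k[T;T⁻¹] →* k) (Tu k),
    Units.map ((χ.comp Algebra.TensorProduct.includeRight : k[T;T⁻¹] →ₐ[k] k) : k[T;T⁻¹] →* k) (Tu k), ?_⟩
  rw [← key, ← key]
  refine Algebra.TensorProduct.ext (AlgHom.ext fun a => by simp) (AlgHom.ext fun a => by simp)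

variable {A : Type u} [CommRing A] [HopfAlgebra k A] [Algebra.FiniteType k A]

/-- A one-parameter subgroup of points with Laurent polynomial coordinates is a cocharacter. -/
theorem exists_lam (γ : kˣ →* HopfPts.Pt k A) (hγ : ∀ a : A, (fun x => (γ x).ofConv a) ∈ (evU (k := k)).range) :
    ∃ lam : A →ₐc[k] k[T;T⁻¹], ∀ x, lamPt lam x = γ x := by
  let F : A →ₐ[k] (kˣ → k) :=
    { toFun := fun a x => (γ x).ofConv a
      map_one' := funext fun x => map_one _
      map_mul' := fun _ _ => funext fun x => map_mul _ _ _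
      map_zero' := funext fun x => map_zero _
      map_add' := fun _ _ => funext fun x => map_add _ _ _
      commutes' := fun c => funext fun x => (γ x).ofConv.commutes c }
  let l : A →ₐ[k] k[T;T⁻¹] :=
    (AlgEquiv.ofInjective evU evU_injective).symm.toAlgHom.comp (F.codRestrict _ hγ)
  have hl : ∀ (x : kˣ) (a : A), evR (Algebra.ofId k k) x (l a) = (γ x).ofConv a := fun x a => by
    have := (AlgEquiv.ofInjective (evU (k := k)) evU_injective).apply_symm_apply ⟨F a, hγ a⟩
    exact congrFun (congrArg Subtype.val this) x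
  have hcu : (Bialgebra.counitAlgHom k k[T;T⁻¹]).comp l = Bialgebra.counitAlgHom k A := by
    have h1 : Bialgebra.counitAlgHom k k[T;T⁻¹] = evR (Algebra.ofId k k) 1 := laurent_hom_ext fun a c => by simp
    refine AlgHom.ext fun a => ?_
    rw [AlgHom.comp_apply, h1, hl, map_one]
    exact AlgHom.convOne_apply a
  have hco : (Algebra.TensorProduct.map l l).comp (Bialgebra.comulAlgHom k A) =
      (Bialgebra.comulAlgHom k k[T;T⁻¹]).comp l := by
    refine AlgHom.ext fun a => sub_eq_zero.mp ?_
    by_contra hne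
    haveI : IsDomain (k[T;T⁻¹] ⊗[k] k[T;T⁻¹]) :=
      MulEquiv.isDomain (AddMonoidAlgebra k[T;T⁻¹] ℤ)
        (AddMonoidAlgebra.scalarTensorEquiv k k[T;T⁻¹] (M := ℤ)).toMulEquiv
    haveI : AddMonoid.FG ℤ := AddGroup.fg_iff_addMonoid_fg.mp inferInstance
    haveI : Algebra.FiniteType k k[T;T⁻¹] := AddMonoidAlgebra.finiteType_of_fg k ℤ
    haveI : Algebra.FiniteType k (k[T;T⁻¹] ⊗[k] k[T;T⁻¹]) :=
      Algebra.FiniteType.trans (R := k) (S := k[T;T⁻¹]) (A := k[T;T⁻¹] ⊗[k] k[T;T⁻¹]) inferInstance inferInstance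
    obtain ⟨χ, hχ⟩ := Solv.exists_algHom_ne_zero (K := k) hne
    refine hχ ?_
    rw [map_sub, sub_eq_zero]
    obtain ⟨x, y, rfl⟩ := eq_lift χ
    have key : (toConv (evR (Algebra.ofId k k) x) * toConv (evR (Algebra.ofId k k) y) :
        WithConv (k[T;T⁻¹] →ₐ[k] k)) = toConv (evR (Algebra.ofId k k) (x * y)) := by
      refine ofConv_injective (laurent_hom_ext fun a r => ?_)
      simp [AlgHom.convMul_apply, evR_single, mul_zpow, mul_assoc, mul_comm, mul_left_comm]
    have h1 := congrArg (fun φ : WithConv (k[T;T⁻¹] →ₐ[k] k) => φ.ofConv (l a)) key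
    simp only [ofConv_toConv, hl, map_mul γ] at h1
    show _ = Algebra.TensorProduct.lift _ _ _ (Coalgebra.comul (l a))
    rw [show Algebra.TensorProduct.lift (evR (Algebra.ofId k k) x) (evR (Algebra.ofId k k) y)
      (fun _ _ => Commute.all _ _) (Coalgebra.comul (l a)) =
        (toConv (evR (Algebra.ofId k k) x) * toConv (evR (Algebra.ofId k k) y) :
          WithConv (k[T;T⁻¹] →ₐ[k] k)).ofConv (l a) from (AlgHom.convMul_apply _ _ _).symm, h1]
    rw [AlgHom.convMul_apply]
    show Algebra.TensorProduct.lift _ _ _ (Algebra.TensorProduct.map l l (Coalgebra.comul a)) = _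
    rw [← AlgHom.comp_apply]
    congr 1
    refine Algebra.TensorProduct.ext (AlgHom.ext fun b => ?_) (AlgHom.ext fun b => ?_) <;> simp <;> exact hl _ b
  exact ⟨BialgHom.ofAlgHom l hcu hco, fun x => ofConv_injective (AlgHom.ext fun a => hl x a)⟩

variable {W : Type u} [AddCommGroup W] [Module k W] [FiniteDimensional k W] {σ : Representation k (HopfPts.Pt k A) W}

/-- A non-central torus has a non-central cocharacter. -/
theorem exists_cochar {S : Subgroup (HopfPts.Pt k A)} (hcl : (HopfPts.D k A).IsCl S) (hirr : (HopfPts.D k A).SIrr S)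
    (hσ : GenRep.Gen (HopfPts.D k A) σ)
    (hdiag : ∃ e : Basis (Fin (finrank k W)) k W, ∀ t ∈ S, ∀ i, ∃ c : k, σ t (e i) = c • e i)
    (hnc : ∃ t ∈ S, ∃ g, t * g ≠ g * t) :
    ∃ (lam : A →ₐc[k] k[T;T⁻¹]) (x : kˣ) (g : HopfPts.Pt k A), lamPt lam x * g ≠ g * lamPt lam x := by
  classical
  let D := HopfPts.D k A
  have hDS : (D.restrict S hcl).SIrr Set.univ :=
    D.sirr_restrict.mpr (by rw [Set.image_univ, Subtype.range_coe_subtype]; exact hirr)
  let DS := D.restrict S hcl
  have hσS := GenRep.Gen.restrict D hσ S hcl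
  obtain ⟨e, he⟩ := hdiag
  choose c hc using fun (t : S) i => he t t.2 i
  have hcoef : ∀ t i, c t i = e.coord i (σ (t : HopfPts.Pt k A) (e i)) := fun t i => by
    rw [hc, map_smul, Basis.coord_apply, Basis.repr_self, Finsupp.single_eq_same, smul_eq_mul, mul_one]
  let χ : Fin (finrank k W) → S →* kˣ := fun i =>
    MonoidHom.toHomUnits
      { toFun := fun t => c t i
        map_one' := by
          rw [hcoef, OneMemClass.coe_one, map_one, Module.End.one_apply, Basis.coord_apply, Basis.repr_self,
            Finsupp.single_eq_same]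
        map_mul' := fun s t => by
          rw [hcoef, Subgroup.coe_mul, map_mul, Module.End.mul_apply, hc t, map_smul, hc s, smul_smul, map_smul,
            Basis.coord_apply, Basis.repr_self, Finsupp.single_eq_same, smul_eq_mul, mul_one, mul_comm] }
  have hχ : ∀ i, Diag.RegChar DS (χ i) := fun i => by
    show (fun t => c t i) ∈ DS.R
    rw [show (fun t => c t i) = fun t : S => e.coord i ((σ.comp S.subtype) t (e i)) from funext fun t => hcoef t i]
    exact hσS.reg _ _
  obtain ⟨r, ψ, hψ⟩ := Diag.exists_torusChars hDS χ hχ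
  let δ : S →* (Fin r → kˣ) :=
    { toFun := fun g j => ψ j g
      map_one' := funext fun j => map_one (ψ j)
      map_mul' := fun g g' => funext fun j => map_mul (ψ j) g g' }
  have hδsurj : Function.Surjective δ := fun z => by
    obtain ⟨g, hg⟩ := Diag.surjective_of_indep hDS ψ hψ.reg hψ.indep z
    exact ⟨g, funext hg⟩
  have hδinj : Function.Injective δ := (injective_iff_map_eq_one δ).mpr fun t ht => by
    have hχ1 : ∀ i, c t i = 1 := fun i => by
      obtain ⟨d, hd⟩ := hψ.mono i
      have h1 : χ i t = 1 := by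
        rw [hd, MonoidHom.finsetProd_apply]
        exact Finset.prod_eq_one fun j _ => by
          rw [MonoidHom.zpow_apply, show ψ j t = 1 from congrFun ht j, one_zpow]
      exact congrArg Units.val h1
    refine Subtype.ext (hσ.faith (e.ext fun i => ?_))
    rw [hc t i, hχ1, one_smul, OneMemClass.coe_one, map_one, Module.End.one_apply]
  let Φ := (MulEquiv.ofBijective δ ⟨hδinj, hδsurj⟩).symm
  have hΦ : ∀ z j, ψ j (Φ z) = z j := fun z j =>
    congrFun ((MulEquiv.ofBijective δ ⟨hδinj, hδsurj⟩).apply_symm_apply z) j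
  let γ : Fin r → kˣ →* HopfPts.Pt k A := fun j =>
    (S.subtype.comp Φ.toMonoidHom).comp (MonoidHom.mulSingle (fun _ : Fin r => kˣ) j)
  by_contra hall
  simp only [not_exists, not_not] at hall
  have hγc : ∀ j x g, γ j x * g = g * γ j x := by
    intro j
    obtain ⟨lam, hlam⟩ := exists_lam (γ j) fun a => by
      let Fj : (S → k) →ₐ[k] (kˣ → k) :=
        { toFun := fun f x => f (Φ (Pi.mulSingle j x))
          map_one' := rfl
          map_mul' := fun _ _ => rfl
          map_zero' := rfl
          map_add' := fun _ _ => rfl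
          commutes' := fun _ => rfl }
      have hle : DS.R ≤ (evU (k := k)).range.comap Fj := by
        refine hσS.gen.trans (Algebra.adjoin_le ?_)
        rintro _ ⟨w, l, rfl⟩
        show (fun x => l (σ ((Φ (Pi.mulSingle j x) : S) : HopfPts.Pt k A) w)) ∈ (evU (k := k)).range
        have hterm : ∀ i, (fun x => l (e i) * e.repr w i * c (Φ (Pi.mulSingle j x)) i) ∈ (evU (k := k)).range := by
          intro i
          obtain ⟨d, hd⟩ := hψ.mono i
          refine ⟨AddMonoidAlgebra.single (d j) (l (e i) * e.repr w i), funext fun x => ?_⟩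
          show evU (AddMonoidAlgebra.single (d j) (l (e i) * e.repr w i)) x = _
          rw [evU_single]
          congr 1
          have h1 : χ i (Φ (Pi.mulSingle j x)) = x ^ d j := by
            rw [hd, MonoidHom.finsetProd_apply, Finset.prod_eq_single j]
            · rw [MonoidHom.zpow_apply, hΦ, Pi.mulSingle_eq_same]
            · intro j' _ hne
              rw [MonoidHom.zpow_apply, hΦ, Pi.mulSingle_eq_of_ne hne, one_zpow]
            · exact fun h => absurd (Finset.mem_univ j) h
          rw [← Units.val_zpow_eq_zpow_val, ← h1]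
          rfl
        convert sum_mem (t := Finset.univ) fun i _ => hterm i using 1
        funext x
        rw [Finset.sum_apply]
        conv_lhs => rw [← e.sum_repr w, map_sum, map_sum]
        refine Finset.sum_congr rfl fun i _ => ?_
        rw [map_smul, hc, map_smul, map_smul, smul_eq_mul, smul_eq_mul]
        ring
      exact hle ⟨_, ⟨a, rfl⟩, rfl⟩
    intro x g
    rw [← hlam]
    exact hall lam x g
  obtain ⟨t, ht, g, hg⟩ := hnc
  refine hg ?_
  have ht' : t = ((Φ (δ ⟨t, ht⟩) : S) : HopfPts.Pt k A) := by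
    rw [show Φ (δ ⟨t, ht⟩) = ⟨t, ht⟩ from (MulEquiv.ofBijective δ ⟨hδinj, hδsurj⟩).symm_apply_apply _]
  let Zc : Subgroup (Fin r → kˣ) :=
    (Subgroup.center (HopfPts.Pt k A)).comap (S.subtype.comp Φ.toMonoidHom)
  have hmem : ∀ z, z ∈ Zc := fun z => by
    rw [← Finset.univ_prod_mulSingle z]
    exact prod_mem fun j _ => Subgroup.mem_center_iff.mpr fun g => (hγc j (z j) g).symm
  rw [ht']
  exact (Subgroup.mem_center_iff.mp (hmem (δ ⟨t, ht⟩)) g).symm

end

end Groth.Agent.Lib.Rat85
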