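import Groth.Agent.Lib.Rat85.UnipMat
import Groth.Agent.Lib.Rat85.Cochar
import Groth.Agent.Lib.Dyn85.CellField
import Groth.Agent.S16480
import Mathlib.AlgebraicGeometry.FunctionField
import Mathlib.RingTheory.Localization.FractionRing

/-!
# The open cell and rationality
-/

universe u

namespace Groth.Agent.Lib.Rat85

open Module WithConv TensorProduct LaurentPolynomial CategoryTheory AlgebraicGeometry
open Groth.Agent.H1.Classical Groth.Agent.H1.Classical.Torus
open Groth.Agent.Lib.Dyn85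
open Groth.Agent.Lib.Dim.Basic
open Groth.Agent.H1.Classical.Scheme'

set_option linter.style.haveILetI false
attribute [-simp] LaurentPolynomial.single_eq_C_mul_T

noncomputable section

variable {k : Type u} [Field k]

/-- An epimorphism of domains is birational. -/
theorem fraction_equiv_of_epi {A C : Type u} [CommRing A] [IsDomain A] [Algebra k A] [CommRing C] [IsDomain C]
    [Algebra k C] (φ : A →ₐ[k] C) (hφ : Function.Injective φ) (hepi : Epi (CommRingCat.ofHom φ.toRingHom)) :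
    Nonempty (FractionRing A ≃ₐ[k] FractionRing C) := by
  have hi : Function.Injective ((IsScalarTower.toAlgHom k C (FractionRing C)).comp φ) :=
    (IsFractionRing.injective C (FractionRing C)).comp hφ
  let F : FractionRing A →ₐ[k] FractionRing C := IsFractionRing.liftAlgHom hi
  have hF : ∀ a, F (algebraMap A _ a) = algebraMap C _ (φ a) := fun a => IsFractionRing.lift_algebraMap hi a
  suffices hc : ∀ c : C, algebraMap C (FractionRing C) c ∈ F.fieldRange by
    refine ⟨AlgEquiv.ofBijective F ⟨F.injective, fun q => ?_⟩⟩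
    obtain ⟨x, y, -, rfl⟩ := IsFractionRing.div_surjective (A := C) q
    exact F.fieldRange.div_mem (hc x) (hc y)
  intro c
  let K := F.fieldRange
  let L := FractionRing C
  let f : C →+* L ⊗[K] L := (Algebra.TensorProduct.includeLeftRingHom).comp (algebraMap C L)
  let g : C →+* L ⊗[K] L := (Algebra.TensorProduct.includeRight (R := K) (A := L) (B := L)).toRingHom.comp (algebraMap C L)
  have hfg : f.comp φ.toRingHom = g.comp φ.toRingHom := RingHom.ext fun a => by
    let w : K := ⟨algebraMap C L (φ a), ⟨algebraMap A _ a, hF a⟩⟩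
    show (algebraMap C L (φ a)) ⊗ₜ[K] (1 : L) = (1 : L) ⊗ₜ[K] (algebraMap C L (φ a))
    rw [show algebraMap C L (φ a) = w • (1 : L) from (mul_one _).symm, TensorProduct.smul_tmul]
  have heq : CommRingCat.ofHom f = CommRingCat.ofHom g :=
    (cancel_epi (CommRingCat.ofHom φ.toRingHom)).mp (CommRingCat.hom_ext hfg)
  have hxy : (algebraMap C L c) ⊗ₜ[K] (1 : L) = (1 : L) ⊗ₜ[K] (algebraMap C L c) :=
    RingHom.congr_fun (congrArg CommRingCat.Hom.hom heq) c
  obtain ⟨l, hl⟩ : ∃ l : Dual K L, l 1 = 1 := by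
    obtain ⟨l, hl⟩ := LinearMap.exists_leftInverse_of_injective (LinearMap.toSpanSingleton K L 1)
      (LinearMap.ker_eq_bot.mpr fun a b h => by
        simpa [LinearMap.toSpanSingleton_apply] using h)
    exact ⟨l, by simpa using LinearMap.congr_fun hl 1⟩
  have h2 := congrArg (fun t => TensorProduct.lid K L (TensorProduct.map l LinearMap.id t)) hxy
  simp only [TensorProduct.map_tmul, LinearMap.id_apply, TensorProduct.lid_tmul, hl, one_smul] at h2
  rw [← h2]
  exact (show ((l (algebraMap C L c)) • (1 : L)) ∈ F.fieldRange by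
    rw [IntermediateField.smul_def, smul_eq_mul, mul_one]; exact SetLike.coe_mem _)

/-- Rationality is invariant under isomorphisms. -/
theorem ratGen_congr {A B : Type u} [CommRing A] [IsDomain A] [Algebra k A] [CommRing B] [IsDomain B] [Algebra k B]
    (e : A ≃ₐ[k] B) (h : RatGen k (FractionRing A)) : RatGen k (FractionRing B) := by
  have hi : Function.Injective ((IsScalarTower.toAlgHom k B (FractionRing B)).comp e.toAlgHom) :=
    (IsFractionRing.injective B (FractionRing B)).comp e.injective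
  let F : FractionRing A →ₐ[k] FractionRing B := IsFractionRing.liftAlgHom hi
  have hF : ∀ a, F (algebraMap A _ a) = algebraMap B _ (e a) := fun a => IsFractionRing.lift_algebraMap hi a
  refine h.of_equiv (AlgEquiv.ofBijective F ⟨F.injective, fun q => ?_⟩)
  obtain ⟨x, y, -, rfl⟩ := IsFractionRing.div_surjective (A := B) q
  obtain ⟨x, rfl⟩ := e.surjective x
  obtain ⟨y, rfl⟩ := e.surjective y
  exact ⟨algebraMap A _ x / algebraMap A _ y, by rw [map_div₀, hF, hF]⟩

section GLn

variable {n : ℕ} (lamH : CoordGrp.GLn n k →ₐc[k] k[T;T⁻¹])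

open Matrix in
/-- Unipotent points of `GL_n` raise weights. -/
theorem fil_of_mem (ε : ℤ) (hε : ε = 1 ∨ ε = -1) (E : GmAct k (CoordGrp.GLn n k))
    (hE : ∀ m a, E.π m a = (ofLam lamH).π (ε * m) a) (g : Pt k (CoordGrp.GLn n k) k) (hg : g ∈ E.U k) :
    Fil (fun a => GLMat.EB lamH k (ε * a)) 1 (GLMat.toMat g - 1) := by
  intro a b hab
  obtain ⟨hP, h0⟩ := E.mem_U_iff.mp hg
  have key : GLMat.EB lamH k (ε * (a - b) + ε * b) * GLMat.toMat g * GLMat.EB lamH k (ε * b) =
      if a = b then GLMat.EB lamH k (ε * b) else 0 := by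
    rw [← GLMat.coeff_pt_mul_EB]
    split_ifs with h
    · subst h
      rw [show (Matrix.of fun i j => g ((ofLam lamH).π (ε * (a - a)) (CoordGrp.GLn.X i j))) =
        (1 : Matrix (Fin n) (Fin n) k) from Matrix.ext fun i j => by
          rw [Matrix.of_apply, ← hE, sub_self, h0, CoordGrp.GLn.counit_X, Matrix.one_apply]
          split_ifs <;> simp, one_mul]
    · rw [show (Matrix.of fun i j => g ((ofLam lamH).π (ε * (a - b)) (CoordGrp.GLn.X i j))) =
        (0 : Matrix (Fin n) (Fin n) k) from Matrix.ext fun i j => by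
          rw [Matrix.of_apply, ← hE]
          exact E.mem_P_iff.mp hP (a - b) (by omega) _, zero_mul]
  rw [show ε * (a - b) + ε * b = ε * a by ring] at key
  show GLMat.EB lamH k (ε * a) * (GLMat.toMat g - 1) * GLMat.EB lamH k (ε * b) = 0
  rw [mul_sub, sub_mul, key, mul_one, GLMat.EB_mul]
  by_cases h : a = b
  · subst h; rw [if_pos rfl, if_pos rfl, sub_self]
  · rw [if_neg h, if_neg fun h' => h (by rcases hε with rfl | rfl <;> omega), sub_self]

end GLn

variable [IsAlgClosed k] {A : Type u} [CommRing A] [HopfAlgebra k A] [IsDomain A] [Algebra.FiniteType k A]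

/-- The regular functions on points are the algebra. -/
def evEquiv (k : Type u) [Field k] [IsAlgClosed k] (A : Type u) [CommRing A] [HopfAlgebra k A] [IsDomain A]
    [Algebra.FiniteType k A] : A ≃ₐ[k] (HopfPts.D k A).R :=
  AlgEquiv.ofInjective (HopfPts.ev k A) (HopfPts.ev_injective k A)

/-- A unipotent closed subgroup of `GL_n` is rational. -/
theorem ratGen_of_fil {n : ℕ} (π : CoordGrp.GLn n k →ₐc[k] A) (hπ : Function.Surjective π)
    {e : ℤ → Matrix (Fin n) (Fin n) k} {s : Finset ℤ} (he : ∀ a, e a * e a = e a) (hs : ∑ a ∈ s, e a = 1)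
    (h : ∀ g : HopfPts.Pt k A, Fil e 1 (GLMat.toMat (pull π g) - 1)) : RatGen k (FractionRing A) := by
  haveI := Open.isDomain (HopfPts.sirr_univ (k := k) (A := A))
  exact ratGen_congr (evEquiv k A).symm ((uni_of_fil π hπ he hs h).ratGen' HopfPts.sirr_univ hasMul_pts)

/-- A quotient is a domain. -/
theorem isDomain_quot {B : Type u} [CommRing B] [Algebra k B] {C : Type u} [CommRing C] [IsDomain C] [Algebra k C]
    (φ : B →ₐ[k] C) (hφ : Function.Injective φ) : IsDomain B := Function.Injective.isDomain φ.toRingHom hφ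

/-- **The cell step.** -/
theorem ratGen_step (lam : A →ₐc[k] k[T;T⁻¹]) (x : kˣ) (g₀ : HopfPts.Pt k A)
    (hnc : lamPt lam x * g₀ ≠ g₀ * lamPt lam x)
    (ih : ∀ (B : Type u) [CommRing B] [HopfAlgebra k B] [IsDomain B] [Algebra.FiniteType k B],
      trdegNat k B < trdegNat k A → RatGen k (FractionRing B)) : RatGen k (FractionRing A) := by
  classical
  obtain ⟨n, π, hπ⟩ := Groth.Agent.S16480.result k A
  let D := ofLam lam
  let lamH := lam.comp π
  have he := isEquivariant_ofLam π lam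
  let Jm := D.neg.JU
  let Jp := D.JP
  let Ju := D.JU
  let JZ := D.JP ⊔ D.neg.JP
  have hm : Rep Jm (fun R _ _ => D.neg.U R) := D.neg.rep_U
  have hp : Rep Jp (fun R _ _ => D.P R) := D.rep_P
  have hu : Rep Ju (fun R _ _ => D.U R) := D.rep_U
  have hz : Rep JZ (fun R _ _ => D.Z R) := fun R _ _ g => by
    show _ ↔ g ∈ D.Z R
    rw [← D.P_inf_neg]
    refine Iff.trans ?_ (and_congr (D.rep_P R g) (D.neg.rep_P R g))
    refine ⟨fun h => ⟨fun a ha => h a (Ideal.mem_sup_left ha), fun a ha => h a (Ideal.mem_sup_right ha)⟩,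
      fun h a ha => ?_⟩
    obtain ⟨b, hb, c, hc, rfl⟩ := Submodule.mem_sup.mp ha
    rw [map_add, h.1 b hb, h.2 c hc, add_zero]
  haveI := hm.isHopfIdeal
  haveI := hp.isHopfIdeal
  haveI := hu.isHopfIdeal
  haveI := hz.isHopfIdeal
  -- the cell
  let C := (A ⧸ Jm) ⊗[k] (A ⧸ Jp)
  have hopen : IsOpenImmersion (Spec.map (CommRingCat.ofHom (mu (k := k) Jm Jp).toRingHom)) :=
    isOpenImmersion_mu_field π hπ lam hm hp
  obtain ⟨χ₀, -, -⟩ := GmAct.exists_factor hm hp (one_mem (D.neg.U k)) (one_mem (D.P k))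
  haveI : Nontrivial C := χ₀.toRingHom.domain_nontrivial
  haveI : Nonempty (Spec (CommRingCat.of C)) := ⟨(Classical.arbitrary (PrimeSpectrum C) : PrimeSpectrum C)⟩
  haveI : IsIntegral (Spec (CommRingCat.of A)) := (affine_isIntegral_iff (CommRingCat.of A)).mpr ‹_›
  haveI : IsIntegral (Spec (CommRingCat.of C)) :=
    isIntegral_of_isOpenImmersion (Spec.map (CommRingCat.ofHom (mu (k := k) Jm Jp).toRingHom))
  haveI : IsDomain C := (affine_isIntegral_iff (CommRingCat.of C)).mp ‹_›
  have hμ : Function.Injective (mu (k := k) Jm Jp) := by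
    let f := Spec.map (CommRingCat.ofHom (mu (k := k) Jm Jp).toRingHom)
    have hgen : (⟨⊥, Ideal.isPrime_bot⟩ : PrimeSpectrum A) ∈ Set.range f := by
      obtain ⟨q, hq⟩ : (Set.range f).Nonempty := Set.range_nonempty _
      refine Specializes.mem_open ?_ f.isOpenEmbedding.isOpen_range hq
      exact (PrimeSpectrum.le_iff_specializes _ _).mp (bot_le)
    obtain ⟨q, hq⟩ := hgen
    refine (injective_iff_map_eq_zero _).mpr fun a ha => ?_
    have h1 : a ∈ (PrimeSpectrum.comap (mu (k := k) Jm Jp).toRingHom q).asIdeal := by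
      show mu (k := k) Jm Jp a ∈ q.asIdeal
      rw [ha]; exact q.asIdeal.zero_mem
    rw [show PrimeSpectrum.comap (mu (k := k) Jm Jp).toRingHom q = ⟨⊥, Ideal.isPrime_bot⟩ from hq] at h1
    exact (Submodule.mem_bot A).mp h1
  obtain ⟨eAC⟩ := fraction_equiv_of_epi (mu (k := k) Jm Jp) hμ (GmAct.epi_mu hm hp)
  refine RatGen.of_equiv eAC.symm ?_
  haveI : Nontrivial (A ⧸ Jm) := ((χ₀.comp Algebra.TensorProduct.includeLeft).toRingHom).domain_nontrivial
  haveI : Nontrivial (A ⧸ Jp) := ((χ₀.comp Algebra.TensorProduct.includeRight).toRingHom).domain_nontrivial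
  haveI : IsDomain (A ⧸ Jm) := isDomain_quot (Algebra.TensorProduct.includeLeft : (A ⧸ Jm) →ₐ[k] C)
    (Algebra.TensorProduct.includeLeft_injective (S := k) (algebraMap k (A ⧸ Jp)).injective)
  haveI : IsDomain (A ⧸ Jp) := isDomain_quot (Algebra.TensorProduct.includeRight : (A ⧸ Jp) →ₐ[k] C)
    (Algebra.TensorProduct.includeRight_injective (algebraMap k (A ⧸ Jm)).injective)
  have hsep : ∀ {B : Type u} [CommRing B] [IsDomain B] [Algebra k B] [Algebra.FiniteType k B] (b : B),
      (∀ χ : B →ₐ[k] k, χ b = 0) → b = 0 := fun b hb => by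
    by_contra hne
    obtain ⟨χ, hχ⟩ := Solv.exists_algHom_ne_zero (K := k) hne
    exact hχ (hb χ)
  let mk : ∀ J : Ideal A, A →ₐ[k] A ⧸ J := fun J => Ideal.Quotient.mkₐ k J
  have hfil : ∀ (ε : ℤ), ε = 1 ∨ ε = -1 → ∀ (E : GmAct k A) (EH : GmAct k (CoordGrp.GLn n k)),
      IsEquivariant π EH E → (∀ m a, EH.π m a = (ofLam lamH).π (ε * m) a) →
      ∀ (J : Ideal A) [J.IsHopfIdeal k], Rep J (fun R _ _ => E.U R) → ∀ [IsDomain (A ⧸ J)],
        RatGen k (FractionRing (A ⧸ J)) := by
    intro ε hε E EH hEq hEH J _ hJ _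
    refine ratGen_of_fil ((mkH (k := k) J).comp π) (Ideal.Quotient.mk_surjective.comp hπ)
      (e := fun a => GLMat.EB lamH k (ε * a)) (s := (GLMat.wts lamH).image (ε * ·)) (fun a => GLMat.EB_self lamH _) ?_
      fun g => ?_
    · have hεε : ε * ε = 1 := by rcases hε with rfl | rfl <;> rfl
      rw [Finset.sum_image fun a _ b _ h => by simpa [← mul_assoc, hεε] using congrArg (ε * ·) h]
      simp only [← mul_assoc, hεε, one_mul]
      exact GLMat.sum_EB lamH (Finset.Subset.refl _)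
    · refine fil_of_mem lamH ε hε EH hEH (pull π (pull (mkH (k := k) J) g)) (pull_mem_U hEq ?_)
      exact (hJ k _).mp fun a ha => by
        show g.ofConv (Ideal.Quotient.mk J a) = 0
        rw [Ideal.Quotient.eq_zero_iff_mem.mpr ha, map_zero]
  have hminus : RatGen k (FractionRing (A ⧸ Jm)) :=
    hfil (-1) (Or.inr rfl) D.neg (ofLam lamH).neg he.neg (fun m a => by rw [GmAct.neg_π, neg_one_mul]) Jm hm
  -- the decomposition of `P`
  let uP : Pt k A (A ⧸ Jp) := toConv (mk Jp)
  have huP : uP ∈ D.P (A ⧸ Jp) := (hp _ uP).mp fun a ha => Ideal.Quotient.eq_zero_iff_mem.mpr ha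
  obtain ⟨z₀, hz₀, hz₀f, hu₀⟩ := D.exists_limit huP
  let rZ : (A ⧸ JZ) →ₐ[k] (A ⧸ Jp) := Ideal.Quotient.liftₐ JZ z₀.ofConv ((hz _ z₀).mpr hz₀)
  let rU : (A ⧸ Ju) →ₐ[k] (A ⧸ Jp) := Ideal.Quotient.liftₐ Ju (z₀⁻¹ * uP).ofConv ((hu _ _).mpr hu₀)
  have hrZ : ∀ a, rZ (mk JZ a) = z₀ a := fun a => rfl
  have hrU : ∀ a, rU (mk Ju a) = (z₀⁻¹ * uP) a := fun a => rfl
  have hpost : ∀ {S : Type u} [CommRing S] [Algebra k S] (χ : (A ⧸ Jp) →ₐ[k] S) (z : Pt k A S)
      (v : Pt k A S), z ∈ D.Z S → v ∈ D.U S → z * v = post χ uP →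
      post χ z₀ = z ∧ post χ (z₀⁻¹ * uP) = v := by
    intro S _ _ χ z v hz' hv hzv
    have hP : z * v ∈ D.P S := mul_mem (D.Z_le_P hz') (D.U_le_P hv)
    obtain ⟨w, hw, hwf, hwu⟩ := D.exists_limit hP
    obtain ⟨p, -, huniq⟩ := D.existsUnique_zu hP
    have h1 : (z, v) = (w, w⁻¹ * (z * v)) :=
      (huniq (z, v) ⟨hz', hv, rfl⟩).trans (huniq (w, w⁻¹ * (z * v)) ⟨hw, hwu, mul_inv_cancel_left w _⟩).symm
    have hwz : z = w := congrArg Prod.fst h1
    have h2 : post χ z₀ = z := pt_ext fun a => by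
      rw [hwz, hwf, hzv, post_apply, post_apply, hz₀f]
    exact ⟨h2, by rw [map_mul, map_inv, h2, ← hzv, inv_mul_cancel_left]⟩
  have hJpZ : Jp ≤ JZ := le_sup_left
  have hqZ : ((Ideal.Quotient.factorₐ k hJpZ).comp rZ) = AlgHom.id k _ := by
    have h := (hpost (Ideal.Quotient.factorₐ k hJpZ) (toConv (mk JZ)) 1
      ((hz _ _).mp fun a ha => Ideal.Quotient.eq_zero_iff_mem.mpr ha) (one_mem _) (mul_one _)).1
    refine Ideal.Quotient.algHom_ext k (AlgHom.ext fun a => ?_)
    exact congrArg (fun q : Pt k A (A ⧸ JZ) => q a) h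
  have hJpu : Jp ≤ Ju := fun a ha => Ideal.Quotient.eq_zero_iff_mem.mp
    ((hp _ (toConv (mk Ju))).mpr (D.U_le_P ((hu _ (toConv (mk Ju))).mp fun b hb =>
      Ideal.Quotient.eq_zero_iff_mem.mpr hb)) a ha)
  have hqU : ((Ideal.Quotient.factorₐ k hJpu).comp rU) = AlgHom.id k _ := by
    have h := (hpost (Ideal.Quotient.factorₐ k hJpu) 1 (toConv (mk Ju)) (one_mem _)
      ((hu _ _).mp fun a ha => Ideal.Quotient.eq_zero_iff_mem.mpr ha) (one_mul _)).2
    refine Ideal.Quotient.algHom_ext k (AlgHom.ext fun a => ?_)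
    exact congrArg (fun q : Pt k A (A ⧸ Ju) => q a) h
  have hrZinj : Function.Injective rZ := Function.LeftInverse.injective (AlgHom.congr_fun hqZ)
  have hrUinj : Function.Injective rU := Function.LeftInverse.injective (AlgHom.congr_fun hqU)
  haveI : IsDomain (A ⧸ JZ) := isDomain_quot rZ hrZinj
  haveI : IsDomain (A ⧸ Ju) := isDomain_quot rU hrUinj
  have hplus : RatGen k (FractionRing (A ⧸ Ju)) :=
    hfil 1 (Or.inl rfl) D (ofLam lamH) he (fun m a => by rw [one_mul]) Ju hu
  have hJZne : JZ ≠ ⊥ := by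
    intro hbot
    have hall : g₀ ∈ D.Z k := (hz k g₀).mp fun a ha => by
      rw [hbot, Submodule.mem_bot] at ha; rw [ha, map_zero]
    have h1 : D.pt k g₀ = post cst g₀ := hall
    rw [ofLam_pt] at h1
    let ev : k[T;T⁻¹] →ₐ[k] k := evR (AlgHom.id k k) x
    have h2 := congrArg (post ev) h1
    have hev : post ev (post cst g₀) = g₀ := pt_ext fun a => by
      simp [ev, ← LaurentPolynomial.single_eq_C]
    have hTu : Units.map (ev : k[T;T⁻¹] →* k) (Tu k) = x := Units.ext (by
      show ev (LaurentPolynomial.T 1) = x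
      simp [ev, LaurentPolynomial.T])
    rw [post_conj, hev, hTu, conj, mul_inv_eq_iff_eq_mul] at h2
    exact hnc h2
  have hlt : trdegNat k (A ⧸ JZ) < trdegNat k A := by
    haveI : JZ.IsPrime := (Ideal.Quotient.isDomain_iff_prime _).mp ‹_›
    have h := dimQ_lt_of_lt k (bot_lt_iff_ne_bot.mpr hJZne)
    rw [dimQ_bot] at h
    exact h
  have hP : RatGen k (FractionRing (A ⧸ Jp)) := by
    refine RatGen.prod rZ rU hsep hsep (fun χ₁ χ₂ => ?_) ?_ (ih (A ⧸ JZ) hlt) hplus
    · let z : Pt k A k := toConv (χ₁.comp (mk JZ))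
      let v : Pt k A k := toConv (χ₂.comp (mk Ju))
      have hz' : z ∈ D.Z k := (hz _ _).mp fun a ha => by
        show χ₁ (Ideal.Quotient.mk JZ a) = 0; rw [Ideal.Quotient.eq_zero_iff_mem.mpr ha, map_zero]
      have hv : v ∈ D.U k := (hu _ _).mp fun a ha => by
        show χ₂ (Ideal.Quotient.mk Ju a) = 0; rw [Ideal.Quotient.eq_zero_iff_mem.mpr ha, map_zero]
      let χ : (A ⧸ Jp) →ₐ[k] k := Ideal.Quotient.liftₐ Jp (z * v).ofConv
        ((hp _ _).mpr (mul_mem (D.Z_le_P hz') (D.U_le_P hv)))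
      obtain ⟨h1, h2⟩ := hpost χ z v hz' hv (pt_ext fun a => rfl)
      exact ⟨χ, Ideal.Quotient.algHom_ext k (AlgHom.ext fun a => congrArg (fun q : Pt k A k => q a) h1),
        Ideal.Quotient.algHom_ext k (AlgHom.ext fun a => congrArg (fun q : Pt k A k => q a) h2)⟩
    · rw [eq_top_iff]
      intro q _
      set M := IntermediateField.adjoin k
        ((algebraMap (A ⧸ Jp) (FractionRing (A ⧸ Jp))) '' ((rZ.range : Set (A ⧸ Jp)) ∪ rU.range))
      suffices hall : ∀ f : A ⧸ Jp, algebraMap _ (FractionRing (A ⧸ Jp)) f ∈ M by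
        obtain ⟨a, b, -, rfl⟩ := IsFractionRing.div_surjective (A := A ⧸ Jp) q
        exact M.div_mem (hall a) (hall b)
      intro f
      obtain ⟨a, rfl⟩ := Ideal.Quotient.mk_surjective f
      have h1 : (Ideal.Quotient.mk Jp a) = (z₀ * (z₀⁻¹ * uP)) a := by rw [mul_inv_cancel_left]; rfl
      rw [h1, AlgHom.convMul_apply]
      induction Coalgebra.comul (R := k) a using TensorProduct.induction_on with
      | zero => rw [map_zero, map_zero]; exact M.zero_mem
      | tmul b c =>
        rw [Algebra.TensorProduct.lift_tmul, map_mul]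
        exact mul_mem (IntermediateField.subset_adjoin _ _ ⟨_, Or.inl ⟨_, hrZ b⟩, rfl⟩)
          (IntermediateField.subset_adjoin _ _ ⟨_, Or.inr ⟨_, hrU c⟩, rfl⟩)
      | add b c hb hc => rw [map_add, map_add]; exact M.add_mem hb hc
  -- the product
  refine RatGen.prod (R₁ := A ⧸ Jm) (R₂ := A ⧸ Jp) (R := C) Algebra.TensorProduct.includeLeft
    Algebra.TensorProduct.includeRight hsep hsep (fun χ₁ χ₂ => ⟨Algebra.TensorProduct.lift χ₁ χ₂ fun _ _ => Commute.all _ _,
      Algebra.TensorProduct.lift_comp_includeLeft _ _ _, Algebra.TensorProduct.lift_comp_includeRight' _ _ _⟩) ?_ hminus hP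
  rw [eq_top_iff]
  intro q _
  set M := IntermediateField.adjoin k ((algebraMap C (FractionRing C)) ''
    (((Algebra.TensorProduct.includeLeft : (A ⧸ Jm) →ₐ[k] C).range : Set C) ∪
      (Algebra.TensorProduct.includeRight : (A ⧸ Jp) →ₐ[k] C).range))
  suffices hall : ∀ f : C, algebraMap C (FractionRing C) f ∈ M by
    obtain ⟨a, b, -, rfl⟩ := IsFractionRing.div_surjective (A := C) q
    exact M.div_mem (hall a) (hall b)
  intro f
  induction f using TensorProduct.induction_on with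
  | zero => rw [map_zero]; exact M.zero_mem
  | tmul b c =>
    rw [show (b ⊗ₜ[k] c : C) = (b ⊗ₜ[k] (1 : A ⧸ Jp)) * ((1 : A ⧸ Jm) ⊗ₜ[k] c) by
      rw [Algebra.TensorProduct.tmul_mul_tmul, mul_one, one_mul], map_mul]
    exact mul_mem (IntermediateField.subset_adjoin _ _ ⟨_, Or.inl ⟨b, rfl⟩, rfl⟩)
      (IntermediateField.subset_adjoin _ _ ⟨_, Or.inr ⟨c, rfl⟩, rfl⟩)
  | add b c hb hc => rw [map_add]; exact M.add_mem hb hc

end

end Groth.Agent.Lib.Rat85
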