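import Groth.Agent.Lib.Rat85.Cell
import Groth.Agent.H1.Classical.Torus.Central

/-!
# Connected linear groups are rational; birational localisations
-/

universe u

namespace Groth.Agent.Lib.Rat85

open Module
open Groth.Agent.H1.Classical Groth.Agent.H1.Classical.Torus
open Groth.Agent.Lib.Dim.Basic
open Groth.Agent.H1.Classical.Scheme'

set_option linter.style.haveILetI false

noncomputable section

variable {k : Type u} [Field k] [IsAlgClosed k]

/-- **The function field of a connected linear group is rational.** -/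
theorem ratGen_hopf : ∀ (d : ℕ) (A : Type u) [CommRing A] [HopfAlgebra k A] [IsDomain A] [Algebra.FiniteType k A],
    trdegNat k A ≤ d → RatGen k (FractionRing A) := by
  intro d
  induction d using Nat.strong_induction_on with
  | _ d ih =>
  intro A _ _ _ _ hd
  classical
  let D := HopfPts.D k A
  have hirr : D.SIrr Set.univ := HopfPts.sirr_univ
  haveI := Open.isDomain hirr
  obtain ⟨W, _, σ, hσ⟩ := GenRep.exists_gen D hasMul_pts pts_ext
  by_cases hsolv : Group.IsSolvable (HopfPts.Pt k A)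
  · exact ratGen_congr (evEquiv k A).symm (ratGen_solvable hirr hasMul_pts hσ)
  obtain ⟨B, hcl, hBirr, ⟨m, hm⟩, -, hcomp⟩ :=
    Borel.exists_borel_complete (finrank k W) D hirr σ hσ.reg rfl
  haveI : Group.IsSolvable B := (Group.isSolvable_def _).mpr ⟨m, (Subgroup.eq_bot_iff_forall _).mpr fun a ha =>
    Subtype.ext (hσ.faith ((hm a ha).trans (map_one σ).symm))⟩
  have hDB : (D.restrict B hcl).SIrr Set.univ :=
    D.sirr_restrict.mpr (by rw [Set.image_univ, Subtype.range_coe_subtype]; exact hBirr)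
  obtain ⟨T, U, τ, hs⟩ :=
    Split.exists_split (D.restrict B hcl) hDB (σ.comp B.subtype) (GenRep.Gen.restrict D hσ B hcl)
  let T' : Subgroup (HopfPts.Pt k A) := T.map B.subtype
  have hnc : ∃ t ∈ T', ∃ g, t * g ≠ g * t := by
    by_contra hall
    simp only [ne_eq, not_exists, not_and, not_not] at hall
    refine hsolv (Central.isSolvable D hirr hσ hcl hBirr (hcomp hasMul_pts)
      (T := T') (fun x hx => by obtain ⟨p, -, rfl⟩ := hx; exact p.2) hall fun s hsB => ?_)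
    refine ⟨(τ ⟨s, hsB⟩ : HopfPts.Pt k A), ⟨_, hs.tau_mem _, rfl⟩, ?_⟩
    have hU : (τ ⟨s, hsB⟩)⁻¹ * ⟨s, hsB⟩ ∈ U := (hs.tau_ker _).mp (by
      rw [map_mul, map_inv, hs.tau_fix _ (hs.tau_mem _), inv_mul_cancel])
    exact (hs.nilp _).mpr hU
  have hset : (T' : Set (HopfPts.Pt k A)) = Subtype.val '' (T : Set B) := Subgroup.coe_map _ _
  obtain ⟨e, he⟩ := hs.diag
  obtain ⟨lam, x, g, hg⟩ := exists_cochar (hset ▸ D.isCl_image hs.clT) (hset ▸ D.sirr_restrict.mp hs.irrT) hσ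
    ⟨e, fun t ht i => by obtain ⟨p, hp, rfl⟩ := ht; exact he p hp i⟩ hnc
  exact ratGen_step lam x g hg fun C _ _ _ _ hlt =>
    ih (trdegNat k C) (lt_of_lt_of_le hlt hd) C le_rfl

section Localisation

variable {F : Type u} [Field F] [Algebra k F] {A : Type u} [CommRing A] [IsDomain A] [Algebra k A]

omit [IsAlgClosed k] in
/-- A localisation inside a field. -/
theorem exists_away_equiv (ι : A →ₐ[k] F) (hι : Function.Injective ι) (f : A) (hf : f ≠ 0) :
    Nonempty (Localization.Away f ≃ₐ[k] Algebra.adjoin k (Set.range ι ∪ {(ι f)⁻¹})) := by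
  have hu : ∀ y : Submonoid.powers f, IsUnit (ι y) := by
    rintro ⟨_, j, rfl⟩
    rw [map_pow]
    exact (IsUnit.mk0 _ fun h => hf (hι (h.trans (map_zero ι).symm))).pow j
  let φ : Localization.Away f →ₐ[k] F := IsLocalization.liftAlgHom hu
  have hφ : ∀ a, φ (algebraMap A _ a) = ι a := fun a => IsLocalization.lift_eq _ a
  have hmk : ∀ (a : A) (j : ℕ), φ (IsLocalization.mk' _ a (⟨f ^ j, j, rfl⟩ : Submonoid.powers f)) =
      ι a * (ι f)⁻¹ ^ j := fun a j => by
    have h := congrArg φ (IsLocalization.mk'_spec (Localization.Away f) a (⟨f ^ j, j, rfl⟩ : Submonoid.powers f))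
    rw [map_mul, hφ, hφ, map_pow] at h
    rw [inv_pow, ← div_eq_mul_inv, eq_div_iff (pow_ne_zero _ fun h' => hf (hι (h'.trans (map_zero ι).symm)))]
    exact h
  have hinj : Function.Injective φ := (injective_iff_map_eq_zero φ).mpr fun z hz => by
    obtain ⟨a, ⟨_, j, rfl⟩, rfl⟩ := IsLocalization.exists_mk'_eq (Submonoid.powers f) z
    rw [hmk, mul_eq_zero] at hz
    have ha : a = 0 := hι ((hz.resolve_right (pow_ne_zero _ (inv_ne_zero fun h' =>
      hf (hι (h'.trans (map_zero ι).symm))))).trans (map_zero ι).symm)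
    rw [ha, IsLocalization.mk'_zero]
  have hrange : φ.range = Algebra.adjoin k (Set.range ι ∪ {(ι f)⁻¹}) := by
    refine le_antisymm ?_ (Algebra.adjoin_le ?_)
    · rintro _ ⟨z, rfl⟩
      obtain ⟨a, ⟨_, j, rfl⟩, rfl⟩ := IsLocalization.exists_mk'_eq (Submonoid.powers f) z
      show φ _ ∈ _
      rw [hmk]
      refine mul_mem (Algebra.subset_adjoin (Or.inl ⟨a, rfl⟩)) (pow_mem ?_ _)
      exact Algebra.subset_adjoin (Or.inr rfl)
    · rintro _ (⟨a, rfl⟩ | rfl)
      · exact ⟨_, hφ a⟩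
      · exact ⟨IsLocalization.mk' _ 1 (⟨f ^ 1, 1, rfl⟩ : Submonoid.powers f), by
          show φ _ = _
          rw [hmk, map_one, one_mul, pow_one]⟩
  exact ⟨(AlgEquiv.ofInjective φ hinj).trans (Subalgebra.equivOfEq _ _ hrange)⟩

omit [IsAlgClosed k] in
/-- Birational finitely generated algebras have a common localisation. -/
theorem exists_common_localisation {P : Type u} [CommRing P] [IsDomain P] [Algebra k P] [Algebra.FiniteType k A]
    [Algebra.FiniteType k P] (ι : A →ₐ[k] F) (hι : Function.Injective ι) (κ : P →ₐ[k] F) (hκ : Function.Injective κ)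
    (hA : ∀ q : F, ∃ a b : A, ι b ≠ 0 ∧ q = ι a / ι b) (hP : ∀ q : F, ∃ a b : P, κ b ≠ 0 ∧ q = κ a / κ b) :
    ∃ (f : A) (g : P), f ≠ 0 ∧ g ≠ 0 ∧ Nonempty (Localization.Away f ≃ₐ[k] Localization.Away g) := by
  classical
  have key : ∀ {B C : Type u} [CommRing B] [Algebra k B] [Algebra.FiniteType k B] [CommRing C] [Algebra k C]
      (φ : B →ₐ[k] F) (ψ : C →ₐ[k] F), (∀ q : F, ∃ a b : C, ψ b ≠ 0 ∧ q = ψ a / ψ b) →
      ∃ d : C, ψ d ≠ 0 ∧ ∀ b, φ b ∈ Algebra.adjoin k (Set.range ψ ∪ {(ψ d)⁻¹}) := by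
    intro B C _ _ _ _ _ φ ψ hψ
    obtain ⟨s, hs⟩ := Algebra.FiniteType.out (R := k) (A := B)
    choose a b hb he using fun q => hψ q
    refine ⟨∏ x ∈ s, b (φ x), by rw [map_prod]; exact Finset.prod_ne_zero_iff.mpr fun x _ => hb _, fun y => ?_⟩
    have hy : y ∈ Algebra.adjoin k (s : Set B) := by rw [hs]; trivial
    refine (Algebra.adjoin_le (S := (Algebra.adjoin k (Set.range ψ ∪ {(ψ (∏ x ∈ s, b (φ x)))⁻¹})).comap φ)
      (fun x hx => ?_) hy :)
    show φ x ∈ Algebra.adjoin k (Set.range ψ ∪ {(ψ (∏ x ∈ s, b (φ x)))⁻¹})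
    have h1 : φ x = ψ (a (φ x) * ∏ z ∈ s.erase x, b (φ z)) * (ψ (∏ z ∈ s, b (φ z)))⁻¹ := by
      conv_lhs => rw [he (φ x)]
      rw [← Finset.mul_prod_erase s _ hx, map_mul, map_mul, mul_inv, map_prod]
      field_simp [hb]
      rw [mul_div_cancel_right₀ _ (Finset.prod_ne_zero_iff.mpr fun z _ => hb _)]
    rw [h1]
    exact mul_mem (Algebra.subset_adjoin (Or.inl ⟨_, rfl⟩)) (Algebra.subset_adjoin (Or.inr rfl))
  obtain ⟨g₁, hg₁, hAg⟩ := key ι κ hP
  obtain ⟨f₁, hf₁, hPf⟩ := key κ ι hA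
  have num : ∀ {C : Type u} [CommRing C] [Algebra k C] (ψ : C →ₐ[k] F) (d : C) (z : F), ψ d ≠ 0 →
      z ∈ Algebra.adjoin k (Set.range ψ ∪ {(ψ d)⁻¹}) → ∃ (c : C) (j : ℕ), z * ψ d ^ j = ψ c := by
    intro C _ _ ψ d z hd hz
    induction hz using Algebra.adjoin_induction with
    | mem z hz =>
      rcases hz with ⟨c, rfl⟩ | rfl
      · exact ⟨c, 0, by rw [pow_zero, mul_one]⟩
      · exact ⟨1, 1, by rw [pow_one, inv_mul_cancel₀ hd, map_one]⟩
    | algebraMap r => exact ⟨algebraMap k C r, 0, by rw [pow_zero, mul_one, AlgHom.commutes]⟩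
    | add z w _ _ hz hw =>
      obtain ⟨c, i, hc⟩ := hz
      obtain ⟨c', j, hc'⟩ := hw
      exact ⟨c * d ^ j + c' * d ^ i, i + j, by rw [map_add, map_mul, map_mul, map_pow, map_pow, ← hc, ← hc']; ring⟩
    | mul z w _ _ hz hw =>
      obtain ⟨c, i, hc⟩ := hz
      obtain ⟨c', j, hc'⟩ := hw
      exact ⟨c * c', i + j, by rw [map_mul, ← hc, ← hc']; ring⟩
  obtain ⟨a, i, ha⟩ := num ι f₁ _ hf₁ (hPf g₁)
  obtain ⟨b, j, hb⟩ := num κ g₁ _ hg₁ (hAg f₁)
  have ha0 : ι a ≠ 0 := ha ▸ mul_ne_zero hg₁ (pow_ne_zero _ hf₁)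
  have hb0 : κ b ≠ 0 := hb ▸ mul_ne_zero hf₁ (pow_ne_zero _ hg₁)
  have hfa : ι (f₁ * a) ≠ 0 := by rw [map_mul]; exact mul_ne_zero hf₁ ha0
  have hgb : κ (g₁ * b) ≠ 0 := by rw [map_mul]; exact mul_ne_zero hg₁ hb0
  refine ⟨f₁ * a, g₁ * b, fun h => hfa (by rw [h, map_zero]), fun h => hgb (by rw [h, map_zero]), ?_⟩
  obtain ⟨e₁⟩ := exists_away_equiv ι hι (f₁ * a) fun h => hfa (by rw [h, map_zero])
  obtain ⟨e₂⟩ := exists_away_equiv κ hκ (g₁ * b) fun h => hgb (by rw [h, map_zero])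
  refine ⟨(e₁.trans (Subalgebra.equivOfEq _ _ (le_antisymm ?_ ?_))).trans e₂.symm⟩
  · set M := Algebra.adjoin k (Set.range κ ∪ {(κ (g₁ * b))⁻¹})
    have hκM : ∀ p, κ p ∈ M := fun p => Algebra.subset_adjoin (Or.inl ⟨p, rfl⟩)
    have hinvM : (κ (g₁ * b))⁻¹ ∈ M := Algebra.subset_adjoin (Or.inr rfl)
    have hg₁i : (κ g₁)⁻¹ ∈ M := by
      rw [show (κ g₁)⁻¹ = κ b * (κ (g₁ * b))⁻¹ by rw [map_mul]; field_simp]
      exact mul_mem (hκM b) hinvM
    have hιM : ∀ c, ι c ∈ M := fun c =>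
      (Algebra.adjoin_le (S := M) (Set.union_subset (Set.range_subset_iff.mpr hκM)
        (Set.singleton_subset_iff.mpr hg₁i)) (hAg c) :)
    have hf₁i : (ι f₁)⁻¹ ∈ M := by
      rw [show (ι f₁)⁻¹ = κ g₁ * κ g₁ ^ j * (κ (g₁ * b))⁻¹ by rw [map_mul, ← hb]; field_simp]
      exact mul_mem (mul_mem (hκM _) (pow_mem (hκM _) _)) hinvM
    refine Algebra.adjoin_le (Set.union_subset (Set.range_subset_iff.mpr hιM) (Set.singleton_subset_iff.mpr ?_))
    rw [show (ι (f₁ * a))⁻¹ = (ι f₁)⁻¹ * ((κ g₁)⁻¹ * (ι f₁)⁻¹ ^ i) by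
      rw [map_mul, ← ha, mul_inv, mul_inv, inv_pow]]
    exact mul_mem hf₁i (mul_mem hg₁i (pow_mem hf₁i _))
  · set M := Algebra.adjoin k (Set.range ι ∪ {(ι (f₁ * a))⁻¹})
    have hκM : ∀ p, ι p ∈ M := fun p => Algebra.subset_adjoin (Or.inl ⟨p, rfl⟩)
    have hinvM : (ι (f₁ * a))⁻¹ ∈ M := Algebra.subset_adjoin (Or.inr rfl)
    have hg₁i : (ι f₁)⁻¹ ∈ M := by
      rw [show (ι f₁)⁻¹ = ι a * (ι (f₁ * a))⁻¹ by rw [map_mul]; field_simp]
      exact mul_mem (hκM a) hinvM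
    have hιM : ∀ c, κ c ∈ M := fun c =>
      (Algebra.adjoin_le (S := M) (Set.union_subset (Set.range_subset_iff.mpr hκM)
        (Set.singleton_subset_iff.mpr hg₁i)) (hPf c) :)
    have hf₁i : (κ g₁)⁻¹ ∈ M := by
      rw [show (κ g₁)⁻¹ = ι f₁ * ι f₁ ^ i * (ι (f₁ * a))⁻¹ by rw [map_mul, ← ha]; field_simp]
      exact mul_mem (mul_mem (hκM _) (pow_mem (hκM _) _)) hinvM
    refine Algebra.adjoin_le (Set.union_subset (Set.range_subset_iff.mpr hιM) (Set.singleton_subset_iff.mpr ?_))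
    rw [show (κ (g₁ * b))⁻¹ = (κ g₁)⁻¹ * ((ι f₁)⁻¹ * (κ g₁)⁻¹ ^ j) by
      rw [map_mul, ← hb, mul_inv, mul_inv, inv_pow]]
    exact mul_mem hf₁i (mul_mem hg₁i (pow_mem hf₁i _))

/-- A connected linear group is birational to affine space. -/
theorem exists_localisation (A : Type u) [CommRing A] [HopfAlgebra k A] [IsDomain A] [Algebra.FiniteType k A] :
    ∃ (n : ℕ) (f : A) (g : MvPolynomial (ULift.{u} (Fin n)) k), f ≠ 0 ∧ g ≠ 0 ∧
      Nonempty (Localization.Away f ≃ₐ[k] Localization.Away g) := by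
  obtain ⟨n, x, hx, hgen⟩ := ratGen_hopf (trdegNat k A) A le_rfl
  let y : ULift.{u} (Fin n) → FractionRing A := fun i => x i.down
  have hy : AlgebraicIndependent k y := hx.comp _ Equiv.ulift.injective
  have hygen : IntermediateField.adjoin k (Set.range y) = ⊤ := by
    rw [show Set.range y = Set.range x from Equiv.ulift.surjective.range_comp x]
    exact hgen
  let κ : MvPolynomial (ULift.{u} (Fin n)) k →ₐ[k] FractionRing A := MvPolynomial.aeval y
  have hκ : Function.Injective κ := algebraicIndependent_iff_injective_aeval.mp hy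
  refine ⟨n, exists_common_localisation (IsScalarTower.toAlgHom k A (FractionRing A))
    (IsFractionRing.injective A (FractionRing A)) κ hκ (fun q => ?_) fun q => ?_⟩
  · obtain ⟨a, b, hb, rfl⟩ := IsFractionRing.div_surjective (A := A) q
    exact ⟨a, b, fun h => nonZeroDivisors.ne_zero hb (IsFractionRing.injective A (FractionRing A)
      (h.trans (map_zero _).symm)), rfl⟩
  · have hq : q ∈ IntermediateField.adjoin k (Set.range y) := hygen ▸ IntermediateField.mem_top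
    obtain ⟨r, s, hs, hqe⟩ : ∃ r s : MvPolynomial (ULift.{u} (Fin n)) k, κ s ≠ 0 ∧ q = κ r / κ s := by
      obtain ⟨r, s, hrs⟩ := IntermediateField.mem_adjoin_range_iff k y q |>.mp hq
      by_cases hs : κ s = 0
      · exact ⟨0, 1, by rw [map_one]; exact one_ne_zero, by rw [hrs]; show κ r / κ s = _; rw [hs, div_zero, map_zero, zero_div]⟩
      · exact ⟨r, s, hs, hrs⟩
    exact ⟨r, s, hs, hqe⟩

end Localisation

end

end Groth.Agent.Lib.Rat85
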