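import Groth.Agent.H1.Classical.Cone
import Groth.Agent.H1.Classical.Torus.GenRep

/-!
# The quotient of a group of points by the kernel of a regular representation
-/

universe u v w

namespace Groth.Agent.Lib.Rat85

open Module
open Groth.Agent.H1.Classical Groth.Agent.H1.Classical.Kolchin Groth.Agent.H1.Classical.Open
  Groth.Agent.H1.Classical.Complete Groth.Agent.H1.Classical.Torus

noncomputable section

variable {k : Type u} [Field k] {Γ : Type v} [Group Γ] {W : Type w} [AddCommGroup W] [Module k W]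
  {ι : Type} [Fintype ι]

/-- The algebra generated by the matrix coefficients. -/
def coefAlg (σ : Representation k Γ W) (b : Basis ι k W) : Subalgebra k (Γ → k) :=
  Algebra.adjoin k (Set.range fun p : ι × ι => fun g => b.coord p.1 (σ g (b p.2)))

variable (σ : Representation k Γ W) (b : Basis ι k W)

theorem coef_mem (i j : ι) : (fun g => b.coord i (σ g (b j))) ∈ coefAlg σ b :=
  Algebra.subset_adjoin ⟨(i, j), rfl⟩

theorem endFn_coefAlg : EndFn (coefAlg σ b) (fun g => σ g) := by
  intro v l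
  have : (fun g => l (σ g v)) = ∑ j, ∑ i, (b.repr v j * l (b i)) • fun g => b.coord i (σ g (b j)) := funext fun g => by
    conv_lhs => rw [← b.sum_repr v, map_sum, map_sum]
    simp only [map_smul, Finset.sum_apply, Pi.smul_apply, smul_eq_mul]
    refine Finset.sum_congr rfl fun j _ => ?_
    conv_lhs => rw [← b.sum_repr (σ g (b j)), map_sum, Finset.mul_sum]
    refine Finset.sum_congr rfl fun i _ => ?_
    rw [map_smul, smul_eq_mul, Basis.coord_apply]
    ring
  rw [this]
  exact sum_mem fun j _ => sum_mem fun i _ => Subalgebra.smul_mem _ (coef_mem σ b i j) _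

theorem coefAlg_fg : (coefAlg σ b).FG := by
  classical
  exact ⟨Finset.univ.image fun p : ι × ι => fun g => b.coord p.1 (σ g (b p.2)), by
    rw [Finset.coe_image, Finset.coe_univ, Set.image_univ]; rfl⟩

theorem coefAlg_le {R : Subalgebra k (Γ → k)} (hσ : EndFn R (fun g => σ g)) : coefAlg σ b ≤ R :=
  Algebra.adjoin_le (by rintro _ ⟨⟨i, j⟩, rfl⟩; exact hσ (b j) (b.coord i))

theorem coefAlg_mul {f : Γ → k} (hf : f ∈ coefAlg σ b) :
    ∃ (n : ℕ) (x y : Fin n → coefAlg σ b), ∀ g h, f (g * h) = ∑ i, (x i : Γ → k) g * (y i : Γ → k) h := by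
  classical
  induction hf using Algebra.adjoin_induction with
  | mem f hf =>
    obtain ⟨⟨i, j⟩, rfl⟩ := hf
    let e := Fintype.equivFin ι
    refine ⟨Fintype.card ι, fun l => ⟨_, coef_mem σ b i (e.symm l)⟩, fun l => ⟨_, coef_mem σ b (e.symm l) j⟩,
      fun g h => ?_⟩
    rw [← e.sum_comp]
    simp only [Equiv.symm_apply_apply]
    conv_lhs => rw [map_mul, Module.End.mul_apply, ← b.sum_repr (σ h (b j)), map_sum, map_sum]
    refine Finset.sum_congr rfl fun l _ => ?_
    rw [map_smul, map_smul, smul_eq_mul, Basis.coord_apply, Basis.coord_apply, mul_comm]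
  | algebraMap c =>
    exact ⟨1, fun _ => algebraMap k _ c, fun _ => 1, fun g h => by simp⟩
  | add f f' _ _ hf hf' =>
    obtain ⟨n, x, y, hxy⟩ := hf
    obtain ⟨n', x', y', hxy'⟩ := hf'
    refine ⟨n + n', Fin.append x x', Fin.append y y', fun g h => ?_⟩
    rw [Fin.sum_univ_add, Pi.add_apply, hxy, hxy']
    simp
  | mul f f' _ _ hf hf' =>
    obtain ⟨n, x, y, hxy⟩ := hf
    obtain ⟨n', x', y', hxy'⟩ := hf'
    refine ⟨n * n', fun l => x (finProdFinEquiv.symm l).1 * x' (finProdFinEquiv.symm l).2,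
      fun l => y (finProdFinEquiv.symm l).1 * y' (finProdFinEquiv.symm l).2, fun g h => ?_⟩
    rw [Pi.mul_apply, hxy, hxy', Finset.sum_mul_sum, ← finProdFinEquiv.sum_comp, Fintype.sum_prod_type]
    simp only [Equiv.symm_apply_apply, MulMemClass.coe_mul, Pi.mul_apply]
    exact Finset.sum_congr rfl fun i _ => Finset.sum_congr rfl fun i' _ => by ring

/-- The representation of the quotient by the kernel. -/
def qRep : Representation k (Γ ⧸ MonoidHom.ker σ) W := QuotientGroup.lift (MonoidHom.ker σ) σ le_rfl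

theorem qRep_mk (g : Γ) : qRep σ (QuotientGroup.mk' (MonoidHom.ker σ) g) = σ g := rfl

theorem qRep_injective : Function.Injective (qRep σ) := by
  intro x y
  obtain ⟨g, rfl⟩ := QuotientGroup.mk'_surjective _ x
  obtain ⟨h, rfl⟩ := QuotientGroup.mk'_surjective _ y
  intro e
  rw [qRep_mk, qRep_mk] at e
  refine QuotientGroup.eq.mpr ?_
  rw [MonoidHom.mem_ker, map_mul, ← e, ← map_mul, inv_mul_cancel, map_one]

/-- Pulling back along the projection. -/
def qPull : ((Γ ⧸ MonoidHom.ker σ) → k) →ₐ[k] (Γ → k) where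
  toFun f g := f (QuotientGroup.mk' (MonoidHom.ker σ) g)
  map_one' := rfl
  map_mul' _ _ := rfl
  map_zero' := rfl
  map_add' _ _ := rfl
  commutes' _ := rfl

theorem qPull_injective : Function.Injective (qPull (k := k) σ) := fun f f' h => funext fun x => by
  obtain ⟨g, rfl⟩ := QuotientGroup.mk'_surjective _ x
  exact congrFun h g

theorem map_qPull : (coefAlg (qRep σ) b).map (qPull σ) = coefAlg σ b := by
  rw [coefAlg, AlgHom.map_adjoin, ← Set.range_comp]
  rfl

variable [IsAlgClosed k] {D : Alg k Γ}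

/-- The points of the coefficient algebra of the quotient are the points of the quotient. -/
theorem qRep_pts (hirr : D.SIrr Set.univ) (hσ : EndFn D.R (fun g => σ g))
    (hinv : ∀ i j, (fun g => b.coord i (σ g⁻¹ (b j))) ∈ coefAlg σ b)
    (χ : coefAlg (qRep σ) b →ₐ[k] k) :
    ∃ x, ∀ f : coefAlg (qRep σ) b, χ f = (f : Γ ⧸ MonoidHom.ker σ → k) x := by
  classical
  let R' := coefAlg (qRep σ) b
  haveI := D.finiteType
  haveI := isDomain hirr
  haveI : Algebra.FiniteType k R' := ⟨(Subalgebra.fg_top _).mpr (coefAlg_fg _ _)⟩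
  have hle : R'.map (qPull σ) ≤ D.R := (map_qPull σ b).le.trans (coefAlg_le σ b hσ)
  let p : R' →ₐ[k] D.R := ((qPull σ).comp R'.val).codRestrict _ fun f => hle ⟨_, f.2, rfl⟩
  have hp : Function.Injective p := fun f f' h =>
    Subtype.ext (qPull_injective σ (congrArg Subtype.val h))
  haveI : IsDomain R' := Function.Injective.isDomain p.toRingHom hp
  obtain ⟨c, hc0, hc⟩ := Cone.exists_generic_lift p hp
  have hinvR : ∀ f ∈ R', (fun x => f x⁻¹) ∈ R' := by
    intro f hf
    induction hf using Algebra.adjoin_induction with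
    | mem f hf =>
      obtain ⟨⟨i, j⟩, rfl⟩ := hf
      obtain ⟨f', hf', he⟩ := (map_qPull σ b).ge (hinv i j)
      have : (fun x => b.coord i (qRep σ x⁻¹ (b j))) = f' := qPull_injective σ (by
        rw [show qPull σ f' = _ from he]; rfl)
      rw [this]; exact hf'
    | algebraMap a => exact R'.algebraMap_mem a
    | add f f' _ _ hf hf' => exact R'.add_mem hf hf'
    | mul f f' _ _ hf hf' => exact R'.mul_mem hf hf'
  let inv : R' →ₐ[k] R' :=
    { toFun := fun f => ⟨_, hinvR _ f.2⟩
      map_one' := rfl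
      map_mul' := fun _ _ => rfl
      map_zero' := rfl
      map_add' := fun _ _ => rfl
      commutes' := fun _ => rfl }
  have hlR : ∀ a, ∀ f ∈ R', (fun x => f (a * x)) ∈ R' := by
    intro a f hf
    obtain ⟨n, x, y, hxy⟩ := coefAlg_mul (qRep σ) b hf
    rw [show (fun z => f (a * z)) = ∑ i, (x i : Γ ⧸ MonoidHom.ker σ → k) a • (y i : Γ ⧸ MonoidHom.ker σ → k) from funext fun z => by
      rw [hxy, Finset.sum_apply]; rfl]
    exact sum_mem fun i _ => R'.smul_mem (y i).2 _
  let lt : (Γ ⧸ MonoidHom.ker σ) → R' →ₐ[k] R' := fun a =>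
    { toFun := fun f => ⟨_, hlR a _ f.2⟩
      map_one' := rfl
      map_mul' := fun _ _ => rfl
      map_zero' := rfl
      map_add' := fun _ _ => rfl
      commutes' := fun _ => rfl }
  obtain ⟨a, ha⟩ : ∃ a, χ (lt a c) ≠ 0 := by
    by_contra hall
    simp only [not_exists, not_not] at hall
    obtain ⟨n, x, y, hxy⟩ := coefAlg_mul (qRep σ) b c.2
    have hlt : ∀ a, lt a c = ∑ i, (x i : Γ ⧸ MonoidHom.ker σ → k) a • y i := fun a => Subtype.ext (funext fun z => by
      show (c : Γ ⧸ MonoidHom.ker σ → k) (a * z) = _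
      rw [hxy, AddSubmonoidClass.coe_finsetSum, Finset.sum_apply]
      rfl)
    have hz : ∑ i, χ (y i) • x i = 0 := Subtype.ext (funext fun a => by
      have := hall a
      rw [hlt, map_sum] at this
      simp only [map_smul, smul_eq_mul] at this
      rw [AddSubmonoidClass.coe_finsetSum, Finset.sum_apply, ZeroMemClass.coe_zero, Pi.zero_apply, ← this]
      exact Finset.sum_congr rfl fun i _ => mul_comm _ _)
    refine hc0 (Subtype.ext (funext fun g => ?_))
    have hcg : algebraMap k R' ((c : Γ ⧸ MonoidHom.ker σ → k) g) = ∑ i, inv (lt g (x i)) * y i := Subtype.ext (funext fun h => by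
      show (c : Γ ⧸ MonoidHom.ker σ → k) g = _
      rw [AddSubmonoidClass.coe_finsetSum, Finset.sum_apply]
      have := hxy (g * h⁻¹) h
      rw [inv_mul_cancel_right] at this
      exact this)
    have h2 := congrArg χ hcg
    rw [AlgHom.commutes, map_sum] at h2
    simp only [map_mul] at h2
    have h3 := congrArg (fun r => χ (inv (lt g r))) hz
    simp only [map_sum, map_smul, map_zero, smul_eq_mul] at h3
    show (c : Γ ⧸ MonoidHom.ker σ → k) g = 0
    rw [show (c : Γ ⧸ MonoidHom.ker σ → k) g = _ from h2, ← h3]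
    exact Finset.sum_congr rfl fun i _ => mul_comm _ _
  obtain ⟨χ', hχ'⟩ := hc (χ.comp (lt a)) ha
  obtain ⟨g, hg⟩ := D.pts χ'
  refine ⟨a⁻¹ * QuotientGroup.mk' (MonoidHom.ker σ) g, fun f => ?_⟩
  have h1 := AlgHom.congr_fun hχ' (lt a⁻¹ f)
  simp only [AlgHom.comp_apply] at h1
  rw [hg] at h1
  have : lt a (lt a⁻¹ f) = f := Subtype.ext (funext fun z => by
    show (f : Γ ⧸ MonoidHom.ker σ → k) (a⁻¹ * (a * z)) = _
    rw [inv_mul_cancel_left])
  rw [this] at h1
  rw [← h1]
  rfl

/-- The quotient group with its functions. -/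
def qAlg (hirr : D.SIrr Set.univ) (hσ : EndFn D.R (fun g => σ g))
    (hinv : ∀ i j, (fun g => b.coord i (σ g⁻¹ (b j))) ∈ coefAlg σ b) : Alg k (Γ ⧸ MonoidHom.ker σ) where
  R := coefAlg (qRep σ) b
  fg := coefAlg_fg _ _
  pts := qRep_pts σ b hirr hσ hinv
  lmul a f hf := by
    obtain ⟨n, x, y, hxy⟩ := coefAlg_mul (qRep σ) b hf
    rw [show (fun z => f (a * z)) = ∑ i, (x i : Γ ⧸ MonoidHom.ker σ → k) a • (y i : Γ ⧸ MonoidHom.ker σ → k) from funext fun z => by
      rw [hxy, Finset.sum_apply]; rfl]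
    exact sum_mem fun i _ => Subalgebra.smul_mem _ (y i).2 _
  rmul a f hf := by
    obtain ⟨n, x, y, hxy⟩ := coefAlg_mul (qRep σ) b hf
    rw [show (fun z => f (z * a)) = ∑ i, (y i : Γ ⧸ MonoidHom.ker σ → k) a • (x i : Γ ⧸ MonoidHom.ker σ → k) from funext fun z => by
      rw [hxy, Finset.sum_apply]; exact Finset.sum_congr rfl fun i _ => mul_comm _ _]
    exact sum_mem fun i _ => Subalgebra.smul_mem _ (x i).2 _
  inv f hf := by
    induction hf using Algebra.adjoin_induction with
    | mem f hf =>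
      obtain ⟨⟨i, j⟩, rfl⟩ := hf
      obtain ⟨f', hf', he⟩ := (map_qPull σ b).ge (hinv i j)
      have : (fun x => b.coord i (qRep σ x⁻¹ (b j))) = f' := qPull_injective σ (by
        rw [show qPull σ f' = _ from he]; rfl)
      rw [this]; exact hf'
    | algebraMap a => exact Subalgebra.algebraMap_mem _ a
    | add f f' _ _ hf hf' => exact Subalgebra.add_mem _ hf hf'
    | mul f f' _ _ hf hf' => exact Subalgebra.mul_mem _ hf hf'

variable {hirr : D.SIrr Set.univ} {hσ : EndFn D.R (fun g => σ g)}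
  {hinv : ∀ i j, (fun g => b.coord i (σ g⁻¹ (b j))) ∈ coefAlg σ b}

theorem qAlg_hasMul : HasMul (qAlg σ b hirr hσ hinv) := fun f => coefAlg_mul _ _ f.2

theorem qAlg_gen : GenRep.Gen (qAlg σ b hirr hσ hinv) (qRep σ) where
  reg := endFn_coefAlg _ _
  faith := qRep_injective σ
  gen := Algebra.adjoin_mono (by rintro _ ⟨⟨i, j⟩, rfl⟩; exact ⟨b j, b.coord i, rfl⟩)

theorem qAlg_sirr : (qAlg σ b hirr hσ hinv).SIrr Set.univ := by
  intro f f' h
  have hle : (coefAlg (qRep σ) b).map (qPull σ) ≤ D.R := (map_qPull σ b).le.trans (coefAlg_le σ b hσ)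
  refine (hirr ⟨_, hle ⟨_, f.2, rfl⟩⟩ ⟨_, hle ⟨_, f'.2, rfl⟩⟩ fun g _ => h _ trivial).imp ?_ ?_ <;>
  · intro h1 x _
    obtain ⟨g, rfl⟩ := QuotientGroup.mk'_surjective _ x
    exact h1 g trivial

end

end Groth.Agent.Lib.Rat85
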