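import Groth.Agent.Lib.Rat85.Basic
import Mathlib.RingTheory.FiniteType
import Mathlib.Algebra.Polynomial.Roots
import Mathlib.Algebra.Polynomial.Taylor

/-!
# A rational slice for an action of the additive group
-/

universe u v

open Polynomial

namespace Groth.Agent.Lib.Rat85

noncomputable section

/-- A subspace stable under coordinatewise automorphisms has fixed affine points. -/
theorem exists_fixed_vec {F : Type*} [Field F] {ι : Type*} [Fintype ι] {Γ : Type*} (σ : Γ → F →+* F) (o : ι)
    (V : Submodule F (ι → F)) (hst : ∀ g, ∀ v ∈ V, (fun i => σ g (v i)) ∈ V) {v : ι → F} (hv : v ∈ V) (hvo : v o = 1) :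
    ∃ w ∈ V, w o = 1 ∧ ∀ g i, σ g (w i) = w i := by
  classical
  let sup : (ι → F) → Finset ι := fun x => Finset.univ.filter fun i => x i ≠ 0
  have hex : ∃ d, ∃ x ∈ V, x o = 1 ∧ (sup x).card = d := ⟨_, v, hv, hvo, rfl⟩
  obtain ⟨w, hw, hwo, hcard⟩ := Nat.find_spec hex
  refine ⟨w, hw, hwo, fun g => ?_⟩
  by_contra hne
  simp only [not_forall] at hne
  obtain ⟨i, hi⟩ := hne
  let d : ι → F := fun j => σ g (w j) - w j
  have hd : d ∈ V := V.sub_mem (hst g w hw) hw
  have hdi : d i ≠ 0 := sub_ne_zero.mpr hi
  let w' : ι → F := w - (w i * (d i)⁻¹) • d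
  have hw'o : w' o = 1 := by simp [w', d, hwo]
  have hsub : sup w' ⊂ sup w := by
    refine Finset.ssubset_iff_of_subset ?_ |>.mpr ⟨i, ?_, ?_⟩
    · intro j hj
      simp only [sup, Finset.mem_filter, Finset.mem_univ, true_and] at hj ⊢
      intro h0
      exact hj (by simp [w', d, h0])
    · simp only [sup, Finset.mem_filter, Finset.mem_univ, true_and]
      intro h0
      exact hdi (by simp [d, h0])
    · simp [sup, w', hdi]
  exact absurd (Nat.find_min' hex ⟨w', V.sub_mem hw (V.smul_mem _ hd), hw'o, rfl⟩)
    (not_le.mpr (hcard ▸ Finset.card_lt_card hsub))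

variable {k : Type u} [Field k] [Infinite k] {R : Type v} [CommRing R] [IsDomain R] [Algebra k R]

theorem eq_of_eval_const {F : Type*} [CommRing F] [IsDomain F] [Algebra k F] {P Q : F[X]}
    (h : ∀ t : k, P.eval (algebraMap k F t) = Q.eval (algebraMap k F t)) : P = Q :=
  Polynomial.eq_of_infinite_eval_eq P Q ((Set.infinite_range_of_injective (algebraMap k F).injective).mono
    (by rintro _ ⟨t, rfl⟩; exact h t))

/-- The rational slice. -/
theorem exists_slice [Algebra.FiniteType k R] (ρ : k → R →ₐ[k] R) (h0 : ρ 0 = AlgHom.id k R)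
    (hadd : ∀ s t, ρ (s + t) = (ρ s).comp (ρ t))
    (hpol : ∀ r, ∃ P : R[X], ∀ t, ρ t r = P.eval (algebraMap k R t))
    {n : ℕ} (a b : Fin n → R) (hab : ∀ t, ∑ i, a i * ρ t (b i) = algebraMap k R t) :
    ∃ G : Finset R, (∀ g ∈ G, ∀ t, ρ t g = g) ∧ ∀ R' : Subalgebra k R, (∀ g ∈ G, g ∈ R') →
      (∀ r ∈ R', ∀ t, ρ t r = r) → ∃ f : FractionRing R,
        Transcendental (IntermediateField.adjoin k ((algebraMap R (FractionRing R)) '' (R' : Set R))) f ∧
        IntermediateField.adjoin k (insert f ((algebraMap R (FractionRing R)) '' (R' : Set R))) = ⊤ := by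
  classical
  let ι := algebraMap R (FractionRing R)
  have hιinj : Function.Injective ι := IsFractionRing.injective R (FractionRing R)
  have hρinv : ∀ t r, ρ (-t) (ρ t r) = r := fun t r => by
    rw [← AlgHom.comp_apply, ← hadd, neg_add_cancel, h0, AlgHom.id_apply]
  let e : k → FractionRing R →+* FractionRing R := fun t =>
    IsFractionRing.lift (g := ι.comp (ρ t : R →+* R))
      (hιinj.comp (Function.LeftInverse.injective (hρinv t)))
  have he : ∀ t r, e t (ι r) = ι (ρ t r) := fun t r => IsFractionRing.lift_algebraMap _ r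
  have hec : ∀ t (c : k), e t (algebraMap k _ c) = algebraMap k _ c := fun t c => by
    rw [IsScalarTower.algebraMap_apply k R (FractionRing R), he, AlgHom.commutes]
  choose P hP using hpol
  have hPF : ∀ t r, e t (ι r) = ((P r).map ι).eval (algebraMap k (FractionRing R) t) := fun t r => by
    rw [he, hP, IsScalarTower.algebraMap_apply k R (FractionRing R), Polynomial.eval_map, Polynomial.eval₂_at_apply]
  have hee : ∀ s t r, e s (e t (ι r)) = e (s + t) (ι r) := fun s t r => by
    rw [he, he, he, hadd]; rfl
  have hshift : ∀ s r, ((P r).map ι).map (e s) = ((P r).map ι).comp (X + C (algebraMap k _ s)) := fun s r =>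
    eq_of_eval_const (k := k) fun t => by
      rw [eval_comp, eval_add, eval_X, eval_C, ← map_add, ← hPF, add_comm t s, ← hee, hPF t r,
        Polynomial.eval_map (e s), ← hec s t, Polynomial.eval₂_at_apply, hec]
  -- the affine space of solutions
  let V : Submodule (FractionRing R) (Option (Fin n) → FractionRing R) :=
    { carrier := {v | ∃ c, ∀ t : k, ∑ i, v (some i) * e t (ι (b i)) = v none * algebraMap k _ t + c}
      add_mem' := by
        rintro v w ⟨c, hc⟩ ⟨d, hd⟩
        exact ⟨c + d, fun t => by simp only [Pi.add_apply, add_mul, Finset.sum_add_distrib, hc, hd]; ring⟩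
      zero_mem' := ⟨0, fun t => by simp⟩
      smul_mem' := by
        rintro x v ⟨c, hc⟩
        exact ⟨x * c, fun t => by
          simp only [Pi.smul_apply, smul_eq_mul, mul_assoc, ← Finset.mul_sum, hc]; ring⟩ }
  have hst : ∀ s, ∀ v ∈ V, (fun i => e s (v i)) ∈ V := by
    rintro s v ⟨c, hc⟩
    refine ⟨e s c - algebraMap k _ s * e s (v none), fun t => ?_⟩
    have h := congrArg (e s) (hc (t - s))
    simp only [map_sum, map_mul, map_add, hee, add_sub_cancel, hec] at h
    rw [h, map_sub]
    ring
  obtain ⟨w, ⟨cst, hwV⟩, hwo, hfix⟩ := exists_fixed_vec e none V hst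
    (v := fun o => o.elim 1 fun i => ι (a i)) ⟨0, fun t => by
      simp only [Option.elim, he, ← map_mul, ← map_sum, hab, one_mul, add_zero]
      exact (IsScalarTower.algebraMap_apply k R (FractionRing R) t).symm⟩ rfl
  let f : FractionRing R := ∑ i, w (some i) * ι (b i)
  have hf : ∀ t, e t f = f + algebraMap k _ t := by
    have h := hwV 0
    rw [hwo, map_zero, mul_zero, zero_add] at h
    simp only [he, h0, AlgHom.id_apply] at h
    intro t
    have h' := hwV t
    rw [hwo, one_mul, ← h] at h'
    rw [map_sum]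
    simp only [map_mul, hfix, h']
    exact add_comm _ _
  -- invariant coefficients
  let Q : R → (FractionRing R)[X] := fun r => ((P r).map ι).comp (X - C f)
  have hQ : ∀ s r i, e s ((Q r).coeff i) = (Q r).coeff i := fun s r i => by
    rw [← Polynomial.coeff_map]
    congr 1
    simp only [Q, Polynomial.map_comp, Polynomial.map_sub, Polynomial.map_X, Polynomial.map_C, hf, hshift, comp_assoc,
      add_comp, X_comp, C_comp, map_add]
    congr 1
    ring
  have hQf : ∀ r, (Q r).eval f = ι r := fun r => by
    simp only [Q, eval_comp, eval_sub, eval_X, eval_C, sub_self]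
    rw [← map_zero (algebraMap k (FractionRing R)), ← hPF, he, h0, AlgHom.id_apply]
  have hinvfrac : ∀ q : FractionRing R, (∀ t, e t q = q) →
      ∃ x y : R, (∀ t, ρ t x = x) ∧ (∀ t, ρ t y = y) ∧ y ≠ 0 ∧ q * ι y = ι x := by
    intro q hq
    obtain ⟨x, y, hy, rfl⟩ := IsFractionRing.div_surjective (A := R) q
    have hy0 : y ≠ 0 := nonZeroDivisors.ne_zero hy
    have hy' : ι y ≠ 0 := fun h => hy0 (hιinj (h.trans (map_zero ι).symm))
    have hlin : (P x).map ι = C (ι x / ι y) * (P y).map ι := eq_of_eval_const (k := k) fun t => by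
      rw [eval_mul, eval_C, ← hPF, ← hPF]
      conv_rhs => rw [← hq t, ← map_mul, div_mul_cancel₀ _ hy']
    have hPy : P y ≠ 0 := fun h => hy0 (by
      have := hP y 0
      rwa [h, eval_zero, h0, AlgHom.id_apply] at this)
    have hfixy : ∀ t, ρ t (P y).leadingCoeff = (P y).leadingCoeff := fun t => by
      apply hιinj
      rw [← he]
      have h := congrArg Polynomial.leadingCoeff (hshift t y)
      rw [leadingCoeff_map_of_injective (e t).injective, leadingCoeff_comp (by rw [natDegree_X_add_C]; simp),
        leadingCoeff_X_add_C, one_pow, mul_one, leadingCoeff_map_of_injective hιinj] at h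
      exact h
    have hx : (ι x / ι y) * ι (P y).leadingCoeff = ι ((P x).coeff (P y).natDegree) := by
      rw [← Polynomial.coeff_map ι, hlin, coeff_C_mul, Polynomial.coeff_map]
      rfl
    refine ⟨_, _, fun t => hιinj ?_, hfixy, leadingCoeff_ne_zero.mpr hPy, hx⟩
    rw [← he, ← hx, map_mul, hq, he, hfixy]
  obtain ⟨s, hs⟩ := Algebra.FiniteType.out (R := k) (A := R)
  let S : Finset (FractionRing R) := Finset.univ.image (fun i : Fin n => w (some i)) ∪
    s.biUnion fun r => (Q r).coeffs
  have hS : ∀ q ∈ S, ∀ t, e t q = q := by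
    intro q hq t
    rcases Finset.mem_union.mp hq with h | h
    · obtain ⟨i, -, rfl⟩ := Finset.mem_image.mp h
      exact hfix t _
    · obtain ⟨r, -, hr⟩ := Finset.mem_biUnion.mp h
      obtain ⟨i, -, rfl⟩ := Polynomial.mem_coeffs_iff.mp hr
      exact hQ t r i
  choose! x y hx hy hy0 hq using fun q (hq : q ∈ S) => hinvfrac q (hS q hq)
  refine ⟨S.image x ∪ S.image y, fun g hg t => ?_, fun R' hG hR' => ⟨f, ?_, ?_⟩⟩
  · rcases Finset.mem_union.mp hg with h | h
    · obtain ⟨q, hqS, rfl⟩ := Finset.mem_image.mp h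
      exact hx q hqS t
    · obtain ⟨q, hqS, rfl⟩ := Finset.mem_image.mp h
      exact hy q hqS t
  · rintro ⟨p, hp, hp0⟩
    have hfixL : ∀ t, ∀ z ∈ IntermediateField.adjoin k (ι '' (R' : Set R)), e t z = z := by
      intro t z hz
      induction hz using IntermediateField.adjoin_induction with
      | mem z hz => obtain ⟨r, hr, rfl⟩ := hz; rw [he, hR' r hr]
      | algebraMap c => exact hec t c
      | add z w _ _ hz hw => rw [map_add, hz, hw]
      | inv z _ hz => rw [map_inv₀, hz]
      | mul z w _ _ hz hw => rw [map_mul, hz, hw]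
    let p' := p.map (IntermediateField.adjoin k (ι '' (R' : Set R))).val.toRingHom
    have hroot : ∀ t : k, p'.eval (f + algebraMap k _ t) = 0 := by
      intro t
      have h := congrArg (e t) hp0
      rw [map_zero, Polynomial.aeval_def, Polynomial.hom_eval₂, hf] at h
      rw [Polynomial.eval_map]
      refine Eq.trans ?_ h
      congr 1
      exact RingHom.ext fun (z : IntermediateField.adjoin k (ι '' (R' : Set R))) => (hfixL t _ z.2).symm
    refine hp ((Polynomial.map_eq_zero _).mp (Polynomial.eq_zero_of_infinite_isRoot p' ?_))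
    exact (Set.infinite_range_of_injective (fun s t h => (algebraMap k (FractionRing R)).injective
      (add_left_cancel h))).mono (by rintro _ ⟨t, rfl⟩; exact hroot t)
  · rw [eq_top_iff]
    intro z _
    obtain ⟨u, v, -, rfl⟩ := IsFractionRing.div_surjective (A := R) z
    set M := IntermediateField.adjoin k (insert f (ι '' (R' : Set R)))
    have hfM : f ∈ M := IntermediateField.subset_adjoin _ _ (Set.mem_insert _ _)
    have hSM : ∀ q ∈ S, q ∈ M := fun q hqS => by
      have hmem : ∀ r ∈ S.image x ∪ S.image y, ι r ∈ M := fun r hr =>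
        IntermediateField.subset_adjoin _ _ (Set.mem_insert_of_mem _ ⟨r, hG r hr, rfl⟩)
      have hy' : ι (y q) ≠ 0 := fun h => hy0 q hqS (hιinj (h.trans (map_zero ι).symm))
      rw [eq_div_of_mul_eq hy' (hq q hqS)]
      exact M.div_mem (hmem _ (Finset.mem_union_left _ (Finset.mem_image_of_mem x hqS)))
        (hmem _ (Finset.mem_union_right _ (Finset.mem_image_of_mem y hqS)))
    have hall : ∀ r : R, ι r ∈ M := fun r => by
      have hr : r ∈ Algebra.adjoin k (s : Set R) := hs ▸ Algebra.mem_top
      induction hr using Algebra.adjoin_induction with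
      | mem r hr =>
        rw [← hQf, Polynomial.eval_eq_sum, Polynomial.sum]
        refine M.sum_mem fun i hi => M.mul_mem (hSM _ ?_) (pow_mem hfM i)
        exact Finset.mem_union_right _ (Finset.mem_biUnion.mpr
          ⟨r, hr, Polynomial.coeff_mem_coeffs (Polynomial.mem_support_iff.mp hi)⟩)
      | algebraMap c =>
        rw [← IsScalarTower.algebraMap_apply k R (FractionRing R)]
        exact M.algebraMap_mem c
      | add r r' _ _ h h' => rw [map_add]; exact M.add_mem h h'
      | mul r r' _ _ h h' => rw [map_mul]; exact M.mul_mem h h'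
    exact M.div_mem (hall u) (hall v)

end

end Groth.Agent.Lib.Rat85
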