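import Groth.Agent.Lib.Rat85.Unip
import Groth.Agent.H1.Classical.Torus.Split
import Mathlib.RingTheory.MvPolynomial.Basic
import Mathlib.FieldTheory.IntermediateField.Adjoin.Algebra

/-!
# Products of rational varieties; connected solvable groups are rational
-/

universe u v

namespace Groth.Agent.Lib.Rat85

open Module
open Groth.Agent.H1.Classical Groth.Agent.H1.Classical.Kolchin Groth.Agent.H1.Classical.Open
  Groth.Agent.H1.Classical.Complete Groth.Agent.H1.Classical.Torus

set_option linter.style.haveILetI false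

noncomputable section

variable {k : Type u} [Field k]

section Product

variable {R₁ R₂ R : Type v} [CommRing R₁] [CommRing R₂] [CommRing R] [Algebra k R₁] [Algebra k R₂] [Algebra k R]
  [IsDomain R₁] [IsDomain R₂] [IsDomain R]

/-- The transcendence degree of a domain is that of its fraction field. -/
theorem trdeg_fractionRing (S : Type v) [CommRing S] [IsDomain S] [Algebra k S] :
    Algebra.trdeg k (FractionRing S) = Algebra.trdeg k S := by
  haveI : Algebra.IsAlgebraic S (FractionRing S) := IsLocalization.isAlgebraic (FractionRing S) (nonZeroDivisors S)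
  haveI : FaithfulSMul k S := (faithfulSMul_iff_algebraMap_injective _ _).mpr (algebraMap k S).injective
  have h := trdeg_add_eq k S (A := FractionRing S)
  rw [trdeg_eq_zero (R := S) (A := FractionRing S), add_zero] at h
  exact h.symm

/-- Rationality of a product. -/
theorem RatGen.prod (φ₁ : R₁ →ₐ[k] R) (φ₂ : R₂ →ₐ[k] R)
    (hsep₁ : ∀ a : R₁, (∀ χ : R₁ →ₐ[k] k, χ a = 0) → a = 0)
    (hsep₂ : ∀ a : R₂, (∀ χ : R₂ →ₐ[k] k, χ a = 0) → a = 0)
    (hjoint : ∀ (χ₁ : R₁ →ₐ[k] k) (χ₂ : R₂ →ₐ[k] k), ∃ χ : R →ₐ[k] k, χ.comp φ₁ = χ₁ ∧ χ.comp φ₂ = χ₂)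
    (hgen : IntermediateField.adjoin k
      ((algebraMap R (FractionRing R)) '' ((φ₁.range : Set R) ∪ φ₂.range)) = ⊤)
    (h₁ : RatGen k (FractionRing R₁)) (h₂ : RatGen k (FractionRing R₂)) : RatGen k (FractionRing R) := by
  classical
  obtain ⟨n, x, hx, hxgen⟩ := h₁
  obtain ⟨m, y, hy, hygen⟩ := h₂
  have basis : ∀ {S : Type v} [CommRing S] [IsDomain S] [Algebra k S] {l : ℕ} (z : Fin l → FractionRing S),
      AlgebraicIndependent k z → ∃ a : Fin l → S, AlgebraicIndependent k a := by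
    intro S _ _ _ l z hz
    obtain ⟨s, hs⟩ := exists_isTranscendenceBasis k S
    have h1 := hz.lift_cardinalMk_le_trdeg
    rw [trdeg_fractionRing, ← hs.cardinalMk_eq_trdeg, Cardinal.mk_fin, Cardinal.lift_natCast] at h1
    obtain ⟨e⟩ : Nonempty (Fin l ↪ s) := Cardinal.lift_mk_le'.mp (by simpa using h1)
    exact ⟨_, hs.1.comp e e.injective⟩
  obtain ⟨a, ha⟩ := basis x hx
  obtain ⟨c, hc⟩ := basis y hy
  have hab : AlgebraicIndependent k (Sum.elim (φ₁ ∘ a) (φ₂ ∘ c)) := by
    rw [algebraicIndependent_iff]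
    intro P hP
    let Q := MvPolynomial.sumAlgEquiv k (Fin n) (Fin m) P
    suffices Q = 0 by simpa [Q] using this
    have key : ∀ (χ₁ : R₁ →ₐ[k] k) (χ₂ : R₂ →ₐ[k] k),
        MvPolynomial.eval (fun j => χ₂ (c j))
          (MvPolynomial.eval (fun i => MvPolynomial.C (χ₁ (a i))) Q) = 0 := by
      intro χ₁ χ₂
      obtain ⟨χ, hχ₁, hχ₂⟩ := hjoint χ₁ χ₂
      have h0 := congrArg χ hP
      rw [map_zero, ← AlgHom.comp_apply, MvPolynomial.comp_aeval] at h0
      rw [← h0]
      simp only [Q]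
      clear h0 hP
      induction P using MvPolynomial.induction_on with
      | C r => simp
      | add P P' hp hp' => simp only [map_add, hp, hp']
      | mul_X P i hp =>
        rw [map_mul, map_mul, map_mul, map_mul, hp, MvPolynomial.aeval_X]
        congr 1
        rcases i with i | j
        · simp [← hχ₁]
        · simp [← hχ₂]
    refine MvPolynomial.ext _ _ fun d => ?_
    rw [MvPolynomial.coeff_zero]
    have hzero : ∀ χ₂ : R₂ →ₐ[k] k, MvPolynomial.map (MvPolynomial.eval fun j => χ₂ (c j)) Q = 0 := by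
      intro χ₂
      refine algebraicIndependent_iff.mp ha _ (hsep₁ _ fun χ₁ => ?_)
      rw [← AlgHom.comp_apply, MvPolynomial.comp_aeval, ← key χ₁ χ₂, MvPolynomial.aeval_def, MvPolynomial.eval₂_map]
      rw [show MvPolynomial.eval (fun i => MvPolynomial.C (χ₁ (a i))) Q =
        MvPolynomial.eval₂ (RingHom.id _) (fun i => MvPolynomial.C (χ₁ (a i))) Q from rfl, MvPolynomial.eval₂_comp_left]
      congr 1
      funext j
      simp
    refine algebraicIndependent_iff.mp hc _ (hsep₂ _ fun χ₂ => ?_)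
    rw [← AlgHom.comp_apply, MvPolynomial.comp_aeval, MvPolynomial.aeval_eq_eval, ← MvPolynomial.coeff_map, hzero,
      MvPolynomial.coeff_zero]
  have hge : ((n + m : ℕ) : Cardinal) ≤ Algebra.trdeg k (FractionRing R) := by
    rw [trdeg_fractionRing]
    simpa using hab.lift_cardinalMk_le_trdeg
  have hlift : ∀ {S : Type v} [CommRing S] [IsDomain S] [Algebra k S] (φ : S →ₐ[k] R),
      (∀ s, φ s = 0 → s = 0) → ∃ F : FractionRing S →ₐ[k] FractionRing R,
        ∀ s, F (algebraMap S _ s) = algebraMap R _ (φ s) := by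
    intro S _ _ _ φ hφ
    have hi : Function.Injective ((IsScalarTower.toAlgHom k R (FractionRing R)).comp φ) :=
      (IsFractionRing.injective R (FractionRing R)).comp ((injective_iff_map_eq_zero φ).mpr hφ)
    exact ⟨IsFractionRing.liftAlgHom hi, fun s => IsFractionRing.lift_algebraMap hi s⟩
  have hne₁ : Nonempty (R₁ →ₐ[k] k) := by
    by_contra h
    exact one_ne_zero (hsep₁ 1 fun χ => absurd ⟨χ⟩ h)
  have hne₂ : Nonempty (R₂ →ₐ[k] k) := by
    by_contra h
    exact one_ne_zero (hsep₂ 1 fun χ => absurd ⟨χ⟩ h)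
  obtain ⟨F₁, hF₁⟩ := hlift φ₁ fun s hs => hsep₁ s fun χ₁ => by
    obtain ⟨χ, hχ, -⟩ := hjoint χ₁ hne₂.some
    rw [← hχ, AlgHom.comp_apply, hs, map_zero]
  obtain ⟨F₂, hF₂⟩ := hlift φ₂ fun s hs => hsep₂ s fun χ₂ => by
    obtain ⟨χ, -, hχ⟩ := hjoint hne₁.some χ₂
    rw [← hχ, AlgHom.comp_apply, hs, map_zero]
  let w : Fin (n + m) → FractionRing R := Fin.append (F₁ ∘ x) (F₂ ∘ y)
  have hwgen : IntermediateField.adjoin k (Set.range w) = ⊤ := by
    rw [eq_top_iff, ← hgen, IntermediateField.adjoin_le_iff]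
    rintro _ ⟨_, ⟨s, rfl⟩ | ⟨s, rfl⟩, rfl⟩
    · show algebraMap R _ (φ₁ s) ∈ _
      rw [← hF₁]
      have h : algebraMap R₁ (FractionRing R₁) s ∈ IntermediateField.adjoin k (Set.range x) := hxgen ▸ IntermediateField.mem_top
      have h' : F₁ (algebraMap R₁ _ s) ∈ (IntermediateField.adjoin k (Set.range x)).map F₁ := ⟨_, h, rfl⟩
      rw [IntermediateField.adjoin_map] at h'
      refine IntermediateField.adjoin.mono k _ _ ?_ h'
      rintro _ ⟨_, ⟨i, rfl⟩, rfl⟩
      exact ⟨Fin.castAdd m i, by simp [w]⟩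
    · show algebraMap R _ (φ₂ s) ∈ _
      rw [← hF₂]
      have h : algebraMap R₂ (FractionRing R₂) s ∈ IntermediateField.adjoin k (Set.range y) := hygen ▸ IntermediateField.mem_top
      have h' : F₂ (algebraMap R₂ _ s) ∈ (IntermediateField.adjoin k (Set.range y)).map F₂ := ⟨_, h, rfl⟩
      rw [IntermediateField.adjoin_map] at h'
      refine IntermediateField.adjoin.mono k _ _ ?_ h'
      rintro _ ⟨_, ⟨i, rfl⟩, rfl⟩
      exact ⟨Fin.natAdd n i, by simp [w]⟩
  haveI : Algebra.IsAlgebraic (Algebra.adjoin k (Set.range w)) (FractionRing R) := by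
    refine IntermediateField.isAlgebraic_adjoin_iff_top.mp ?_
    rw [hwgen]
    exact ⟨fun z => isAlgebraic_algebraMap (⟨z, trivial⟩ : (⊤ : IntermediateField k (FractionRing R)))⟩
  exact ⟨n + m, w, (Algebra.IsAlgebraic.isTranscendenceBasis_of_lift_le_trdeg_of_finite k w (by simpa using hge)).1, hwgen⟩

end Product

variable [IsAlgClosed k] {Γ : Type u} [Group Γ] {D : Alg k Γ} {W : Type u} [AddCommGroup W] [Module k W]
  [FiniteDimensional k W] {σ : Representation k Γ W}

/-- Functions on points vanishing at all points vanish. -/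
theorem eq_zero_of_pts {Δ : Type u} [Group Δ] (E : Alg k Δ) (a : E.R) (h : ∀ χ : E.R →ₐ[k] k, χ a = 0) : a = 0 :=
  Subtype.ext (funext fun g => h ((Pi.evalAlgHom k (fun _ : Δ => k) g).comp E.R.val))

/-- A diagonalisable connected group is rational. -/
theorem ratGen_torus {S : Subgroup Γ} (hcl : D.IsCl S) (hirr : D.SIrr S) (hσ : GenRep.Gen D σ)
    (hdiag : ∃ e : Basis (Fin (finrank k W)) k W, ∀ t ∈ S, ∀ i, ∃ c : k, σ t (e i) = c • e i)
    (hDS : (D.restrict S hcl).SIrr Set.univ) :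
    haveI := Open.isDomain hDS
    RatGen k (FractionRing (D.restrict S hcl).R) := by
  classical
  haveI := Open.isDomain hDS
  let DS := D.restrict S hcl
  have hσS := GenRep.Gen.restrict D hσ S hcl
  obtain ⟨e, he⟩ := hdiag
  choose c hc using fun (t : S) i => he t t.2 i
  have hcoef : ∀ t i, c t i = e.coord i (σ (t : Γ) (e i)) := fun t i => by
    rw [hc, map_smul, Basis.coord_apply, Basis.repr_self, Finsupp.single_eq_same, smul_eq_mul, mul_one]
  have hc1 : ∀ i, c 1 i = 1 := fun i => by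
    rw [hcoef, OneMemClass.coe_one, map_one, Module.End.one_apply, Basis.coord_apply, Basis.repr_self,
      Finsupp.single_eq_same]
  have hcmul : ∀ s t i, c (s * t) i = c s i * c t i := fun s t i => by
    rw [hcoef, Subgroup.coe_mul, map_mul, Module.End.mul_apply, hc t, map_smul, hc s, smul_smul, map_smul,
      Basis.coord_apply, Basis.repr_self, Finsupp.single_eq_same, smul_eq_mul, mul_one, mul_comm]
  let χ : Fin (finrank k W) → S →* kˣ := fun i =>
    MonoidHom.toHomUnits { toFun := fun t => c t i, map_one' := hc1 i, map_mul' := fun s t => hcmul s t i }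
  have hχ : ∀ i, Diag.RegChar DS (χ i) := fun i => by
    show (fun t => c t i) ∈ DS.R
    rw [show (fun t => c t i) = fun t : S => e.coord i ((σ.comp S.subtype) t (e i)) from funext fun t => hcoef t i]
    exact hσS.reg _ _
  obtain ⟨r, ψ, hψ⟩ := Diag.exists_torusChars hDS χ hχ
  let z : Fin r → DS.R := fun j => ⟨_, hψ.reg j⟩
  have hz : AlgebraicIndependent k z := algebraicIndependent_iff.mpr fun p hp => hψ.indep p fun g => by
    have h := congrArg (Open.evalR DS g) hp
    rw [map_zero] at h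
    rw [← h]
    let ev : DS.R →ₐ[k] k := (Pi.evalAlgHom k (fun _ : S => k) g).comp DS.R.val
    show _ = ev (MvPolynomial.aeval z p)
    rw [← AlgHom.comp_apply, MvPolynomial.comp_aeval, MvPolynomial.aeval_eq_eval]
    rfl
  let ι := IsScalarTower.toAlgHom k DS.R (FractionRing DS.R)
  refine ⟨r, fun j => ι (z j), hz.map' (f := ι) (IsFractionRing.injective DS.R (FractionRing DS.R)),
    eq_top_iff.mpr fun q _ => ?_⟩
  set M := IntermediateField.adjoin k (Set.range fun j => ι (z j))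
  suffices hall : ∀ f : DS.R, ι f ∈ M by
    obtain ⟨a, b, -, rfl⟩ := IsFractionRing.div_surjective (A := DS.R) q
    exact M.div_mem (hall a) (hall b)
  have hchar : ∀ φ : S →* kˣ, ∀ h : Diag.RegChar DS φ, (∃ d : Fin r → ℤ, φ = ∏ j, ψ j ^ d j) →
      ι ⟨_, h⟩ ∈ M := by
    rintro φ h ⟨d, rfl⟩
    have hev : ∀ (φ : S →* kˣ) (h : Diag.RegChar DS φ), IsUnit (ι ⟨_, h⟩) := fun φ h => by
      refine IsUnit.map ι (IsUnit.of_mul_eq_one ⟨_, Diag.RegChar.inv h⟩ (Subtype.ext (funext fun g => ?_)))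
      show (φ g : k) * ((φ⁻¹ g : kˣ) : k) = 1
      rw [MonoidHom.inv_apply, Units.mul_inv]
    let Φ : {φ : S →* kˣ // Diag.RegChar DS φ} → FractionRing DS.R := fun φ => ι ⟨_, φ.2⟩
    have hprod : ι ⟨_, h⟩ = ∏ j, ι (z j) ^ d j := by
      have hz0 : ∀ j, ι (z j) ≠ 0 := fun j => (hev _ (hψ.reg j)).ne_zero
      obtain ⟨p, hp⟩ : ∃ p : Fin r → ℕ, ∀ j, 0 ≤ d j + p j := ⟨fun j => (d j).natAbs, fun j => by dsimp only; omega⟩
      refine mul_right_cancel₀ (b := ∏ j, ι (z j) ^ p j) (Finset.prod_ne_zero_iff.mpr fun j _ => pow_ne_zero (p j) (hz0 j)) ?_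
      have hr : (⟨_, h⟩ : DS.R) * ∏ j, z j ^ p j = ∏ j, z j ^ (d j + p j).toNat := Subtype.ext (funext fun g => by
        simp only [MulMemClass.coe_mul, SubmonoidClass.coe_finsetProd, SubmonoidClass.coe_pow, Pi.mul_apply,
          Finset.prod_apply, Pi.pow_apply, z, MonoidHom.finsetProd_apply, MonoidHom.zpow_apply, Units.coe_prod,
          ← Finset.prod_mul_distrib]
        refine Finset.prod_congr rfl fun j _ => ?_
        rw [← Units.val_pow_eq_pow_val, ← Units.val_pow_eq_pow_val, ← Units.val_mul, ← zpow_natCast,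
          ← zpow_add, ← zpow_natCast (ψ j g) (d j + p j).toNat, Int.toNat_of_nonneg (hp j)])
      have h2 := congrArg ι hr
      simp only [map_mul, map_prod, map_pow] at h2
      rw [h2, ← Finset.prod_mul_distrib]
      refine Finset.prod_congr rfl fun j _ => ?_
      rw [← zpow_natCast, ← zpow_natCast _ (p j), ← zpow_add₀ (hz0 j), Int.toNat_of_nonneg (hp j)]
    rw [hprod]
    exact prod_mem fun j _ => zpow_mem (IntermediateField.subset_adjoin k (Set.range fun j => ι (z j)) ⟨j, rfl⟩) _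
  have hcoefM : ∀ i j : Fin (finrank k W), ι (⟨_, hσS.reg (e j) (e.coord i)⟩ : DS.R) ∈ M := by
    intro i j
    by_cases hij : i = j
    · subst hij
      convert hchar (χ i) (hχ i) (hψ.mono i) using 2
      exact Subtype.ext (funext fun t => (hcoef t i).symm)
    · convert M.zero_mem
      rw [← map_zero ι]
      congr 1
      refine Subtype.ext (funext fun t => ?_)
      show e.coord i (σ (t : Γ) (e j)) = 0
      rw [hc, map_smul, Basis.coord_apply, Basis.repr_self, Finsupp.single_eq_of_ne hij, smul_zero]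
  let S' : Subalgebra k (S → k) := ((M.toSubalgebra.comap ι).map DS.R.val)
  have hS' : DS.R ≤ S' := by
    refine hσS.gen.trans (Algebra.adjoin_le ?_)
    rintro _ ⟨w, l, rfl⟩
    have hmem : coefAlg (σ.comp S.subtype) e ≤ S' := Algebra.adjoin_le (by
      rintro _ ⟨⟨i, j⟩, rfl⟩
      refine Subalgebra.mem_map.mpr ⟨(⟨fun t => e.coord i (σ.comp S.subtype t (e j)), hσS.reg (e j) (e.coord i)⟩ : DS.R), hcoefM i j, rfl⟩)
    exact hmem (endFn_coefAlg (σ.comp S.subtype) e w l)
  intro f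
  obtain ⟨f', hf', hff⟩ := hS' f.2
  rw [← show f' = f from Subtype.ext hff]
  exact hf'

/-- **Connected solvable groups are rational.** -/
theorem ratGen_solvable (hirr : D.SIrr Set.univ) (hmul : HasMul D) (hσ : GenRep.Gen D σ) [Group.IsSolvable Γ] :
    haveI := Open.isDomain hirr
    RatGen k (FractionRing D.R) := by
  classical
  haveI := Open.isDomain hirr
  obtain ⟨T, U, τ, hs⟩ := Split.exists_split D hirr σ hσ
  have hirrT : (D.restrict T hs.clT).SIrr Set.univ :=
    D.sirr_restrict.mpr (by rw [Set.image_univ, Subtype.range_coe_subtype]; exact hs.irrT)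
  have hirrU : (D.restrict U hs.clU).SIrr Set.univ :=
    D.sirr_restrict.mpr (by rw [Set.image_univ, Subtype.range_coe_subtype]; exact hs.irrU)
  haveI := Open.isDomain hirrT
  haveI := Open.isDomain hirrU
  have hu : ∀ g, (τ g)⁻¹ * g ∈ U := fun g => (hs.tau_ker _).mp (by
    rw [map_mul, map_inv, hs.tau_fix _ (hs.tau_mem g), inv_mul_cancel])
  have hregT : ∀ f ∈ (D.restrict T hs.clT).R, (fun g => f ⟨τ g, hs.tau_mem g⟩) ∈ D.R := by
    rintro _ ⟨F, hF, rfl⟩
    exact hs.tau_reg F hF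
  have hregU : ∀ f ∈ (D.restrict U hs.clU).R, (fun g => f ⟨(τ g)⁻¹ * g, hu g⟩) ∈ D.R := by
    rintro _ ⟨F, hF, rfl⟩
    obtain ⟨n, a, b, hab⟩ := hmul ⟨F, hF⟩
    show (fun g => F ((τ g)⁻¹ * g)) ∈ D.R
    rw [show (fun g => F ((τ g)⁻¹ * g)) =
      ∑ i, (fun g => (a i : Γ → k) (τ g)⁻¹) * (b i : Γ → k) from funext fun g => by
        rw [Finset.sum_apply]; exact hab _ _]
    exact sum_mem fun i _ => mul_mem (hs.tau_reg _ (D.inv _ (a i).2)) (b i).2
  let φ₁ : (D.restrict T hs.clT).R →ₐ[k] D.R :=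
    { toFun := fun f => ⟨_, hregT _ f.2⟩
      map_one' := rfl
      map_mul' := fun _ _ => rfl
      map_zero' := rfl
      map_add' := fun _ _ => rfl
      commutes' := fun _ => rfl }
  let φ₂ : (D.restrict U hs.clU).R →ₐ[k] D.R :=
    { toFun := fun f => ⟨_, hregU _ f.2⟩
      map_one' := rfl
      map_mul' := fun _ _ => rfl
      map_zero' := rfl
      map_add' := fun _ _ => rfl
      commutes' := fun _ => rfl }
  have hUni : Uni (D.restrict U hs.clU) :=
    ⟨W, inferInstance, inferInstance, inferInstance, σ.comp U.subtype, GenRep.Gen.restrict D hσ U hs.clU,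
      inferInstance, fun u => (hs.nilp _).mpr u.2⟩
  refine RatGen.prod φ₁ φ₂ (eq_zero_of_pts _) (eq_zero_of_pts _) (fun χ₁ χ₂ => ?_) (eq_top_iff.mpr ?_)
    (ratGen_torus hs.clT hs.irrT hσ hs.diag hirrT)
    (hUni.ratGen' hirrU (hasMul_restrict D hmul U hs.clU))
  · obtain ⟨t, ht⟩ := (D.restrict T hs.clT).pts χ₁
    obtain ⟨u, hu'⟩ := (D.restrict U hs.clU).pts χ₂
    have hτ : τ ((t : Γ) * u) = t := by
      rw [map_mul, hs.tau_fix _ t.2, (hs.tau_ker _).mpr u.2, mul_one]
    refine ⟨(Pi.evalAlgHom k (fun _ : Γ => k) ((t : Γ) * u)).comp D.R.val, AlgHom.ext fun f => ?_,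
      AlgHom.ext fun f => ?_⟩
    · rw [ht]
      show (f : T → k) ⟨τ ((t : Γ) * u), _⟩ = _
      exact congrArg (f : T → k) (Subtype.ext hτ)
    · rw [hu']
      show (f : U → k) ⟨(τ ((t : Γ) * u))⁻¹ * ((t : Γ) * u), _⟩ = _
      exact congrArg (f : U → k)
        (Subtype.ext (by show (τ ((t : Γ) * u))⁻¹ * ((t : Γ) * u) = u; rw [hτ, inv_mul_cancel_left]))
  · intro q _
    set M := IntermediateField.adjoin k
      ((algebraMap D.R (FractionRing D.R)) '' ((φ₁.range : Set D.R) ∪ φ₂.range))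
    suffices hall : ∀ f : D.R, algebraMap D.R (FractionRing D.R) f ∈ M by
      obtain ⟨a, b, -, rfl⟩ := IsFractionRing.div_surjective (A := D.R) q
      exact M.div_mem (hall a) (hall b)
    intro f
    obtain ⟨n, a, b, hab⟩ := hmul f
    have hf : f = ∑ i, φ₁ ⟨_, ⟨_, (a i).2, rfl⟩⟩ * φ₂ ⟨_, ⟨_, (b i).2, rfl⟩⟩ := Subtype.ext (funext fun g => by
      rw [AddSubmonoidClass.coe_finsetSum, Finset.sum_apply]
      conv_lhs => rw [← mul_inv_cancel_left (τ g) g]
      exact hab _ _)
    rw [hf, map_sum]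
    refine sum_mem fun i _ => ?_
    rw [map_mul]
    exact mul_mem (IntermediateField.subset_adjoin _ _ ⟨_, Or.inl ⟨_, rfl⟩, rfl⟩)
      (IntermediateField.subset_adjoin _ _ ⟨_, Or.inr ⟨_, rfl⟩, rfl⟩)

end

end Groth.Agent.Lib.Rat85
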