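import Groth.Agent.Lib.Rat85.Slice
import Groth.Agent.Lib.Rat85.Quotient
import Groth.Agent.Lib.WittU.UnipStruct
import Groth.Agent.H1.Classical.Torus.Cartan
import Groth.Agent.H1.Classical.Torus.Central
import Groth.Agent.H1.Classical.Torus.Union
import Groth.Agent.H1.Classical.Torus.Retract
import Groth.Agent.H1.Classical.Torus.Centraliser

/-!
# Connected unipotent groups are rational
-/

universe u v

namespace Groth.Agent.Lib.Rat85

open Module
open Groth.Agent.H1.Classical Groth.Agent.H1.Classical.Kolchin Groth.Agent.H1.Classical.Open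
  Groth.Agent.H1.Classical.Complete Groth.Agent.H1.Classical.Torus
open Groth.Agent.Lib.WittU.Reg Groth.Agent.Lib.WittU.UnipChar Groth.Agent.Lib.WittU.Twr

set_option linter.style.haveILetI false

noncomputable section

section Subfield

variable {k : Type u} [Field k] {R : Type v} [CommRing R] [IsDomain R] [Algebra k R] {S : Type v} [CommRing S]
  [IsDomain S] [Algebra k S]

/-- The field generated by a subring is its fraction field. -/
theorem adjoin_image_equiv (φ : S →ₐ[k] R) (hφ : Function.Injective φ) :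
    Nonempty (FractionRing S ≃ₐ[k]
      IntermediateField.adjoin k ((algebraMap R (FractionRing R)) '' (φ.range : Set R))) := by
  let ι := IsScalarTower.toAlgHom k R (FractionRing R)
  have hi : Function.Injective (ι.comp φ) := (IsFractionRing.injective R (FractionRing R)).comp hφ
  let F : FractionRing S →ₐ[k] FractionRing R := IsFractionRing.liftAlgHom hi
  have hF : ∀ s, F (algebraMap S _ s) = ι (φ s) := fun s => IsFractionRing.lift_algebraMap hi s
  have hrange : F.fieldRange =
      IntermediateField.adjoin k ((algebraMap R (FractionRing R)) '' (φ.range : Set R)) := by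
    refine le_antisymm ?_ (IntermediateField.adjoin_le_iff.mpr ?_)
    · rintro _ ⟨z, rfl⟩
      obtain ⟨x, y, -, rfl⟩ := IsFractionRing.div_surjective (A := S) z
      show F _ ∈ _
      rw [map_div₀, hF, hF]
      exact IntermediateField.div_mem _ (IntermediateField.subset_adjoin _ _ ⟨_, ⟨x, rfl⟩, rfl⟩)
        (IntermediateField.subset_adjoin _ _ ⟨_, ⟨y, rfl⟩, rfl⟩)
    · rintro _ ⟨_, ⟨s, rfl⟩, rfl⟩
      exact ⟨algebraMap S _ s, hF s⟩
  exact ⟨(AlgEquiv.ofInjectiveField F).trans (IntermediateField.equivOfEq hrange)⟩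

end Subfield

variable {k : Type u} [Field k] [IsAlgClosed k] {Γ : Type u} [Group Γ]

/-- A unipotent group of points. -/
def Uni (D : Alg k Γ) : Prop :=
  ∃ (W : Type u) (_ : AddCommGroup W) (_ : Module k W) (_ : FiniteDimensional k W) (σ : Representation k Γ W),
    GenRep.Gen D σ ∧ Group.IsSolvable Γ ∧ ∀ g, IsNilpotent (σ g - 1)

variable {D : Alg k Γ}

theorem Uni.sep (hU : Uni D) (x y : Γ) (h : ∀ f ∈ D.R, f x = f y) : x = y := by
  obtain ⟨W, _, _, _, σ, hσ, -, -⟩ := hU
  exact Union.sep D hσ x y h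

/-- Representations of unipotent groups are unipotent. -/
theorem Uni.exists_tri (hU : Uni D) (hirr : D.SIrr Set.univ) {V : Type*} [AddCommGroup V] [Module k V]
    [FiniteDimensional k V] (τ : Representation k Γ V) (hτ : EndFn D.R (fun g => τ g)) :
    ∃ b : Basis (Fin (finrank k V)) k V, Tri.IsTri b τ ∧ ∀ g, Tri.Band 1 (Tri.E b τ g) := by
  obtain ⟨W, _, _, _, σ, hσ, hsolv, hnil⟩ := hU
  haveI := hsolv
  haveI := Open.isDomain hirr
  obtain ⟨b, hb⟩ := Tri.exists_tri D.R (finrank k V) τ hτ (fun v l => D.inv _ (hτ v l)) rfl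
  exact ⟨b, hb, fun g => (Tri.mem_U hb).mp ((Tri.mem_U_one hb).mpr fun i =>
    Central.char_eq_one D hσ (hnil g) (Tri.regular hτ i i))⟩

/-- The coefficients of the inverse are polynomials in the coefficients. -/
theorem inv_mem_coefAlg {V : Type*} [AddCommGroup V] [Module k V] (τ : Representation k Γ V) {n : ℕ}
    (b : Basis (Fin n) k V) (hb : ∀ g, Tri.Band 1 (Tri.E b τ g)) (i j : Fin n) :
    (fun g => b.coord i (τ g⁻¹ (b j))) ∈ coefAlg τ b := by
  classical
  let M : Matrix (Fin n) (Fin n) (coefAlg τ b) :=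
    Matrix.of fun a c => ⟨fun g => b.coord a (τ g (b c)), coef_mem τ b a c⟩
  let P : Matrix (Fin n) (Fin n) (coefAlg τ b) := ∑ m ∈ Finset.range n, (1 - M) ^ m
  suffices (fun g => b.coord i (τ g⁻¹ (b j))) = ((P i j : coefAlg τ b) : Γ → k) by
    rw [this]; exact (P i j).2
  funext g
  let ev : coefAlg τ b →+* k := (Pi.evalRingHom (fun _ : Γ => k) g).comp (coefAlg τ b).val.toRingHom
  have hM : M.map ev = Tri.mat b τ g := Matrix.ext fun a c => by rw [Tri.mat_apply]; rfl
  have hP : P.map ev = ∑ m ∈ Finset.range n, (1 - Tri.mat b τ g) ^ m := by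
    show ev.mapMatrix P = _
    rw [map_sum]
    refine Finset.sum_congr rfl fun m _ => ?_
    rw [map_pow, map_sub, map_one, RingHom.mapMatrix_apply, hM]
  have hpow : (1 - Tri.mat b τ g) ^ n = 0 := by
    rcases n with _ | n
    · exact Matrix.ext fun a => a.elim0
    have h1 : Tri.Band 1 (1 - Tri.mat b τ g) := by
      have := (hb g).neg
      rwa [Tri.E, neg_sub] at this
    exact (h1.pow_succ n).eq_zero le_rfl
  have hmul : Tri.mat b τ g * (∑ m ∈ Finset.range n, (1 - Tri.mat b τ g) ^ m) = 1 := by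
    have := mul_neg_geom_sum (1 - Tri.mat b τ g) n
    rwa [hpow, sub_zero, sub_sub_cancel] at this
  have hinv : Tri.mat b τ g⁻¹ = P.map ev := by
    refine left_inv_eq_right_inv ?_ (hP ▸ hmul)
    rw [← map_mul, inv_mul_cancel, map_one]
  rw [show ((P i j : coefAlg τ b) : Γ → k) g = P.map ev i j from rfl, ← hinv, Tri.mat_apply]

/-- A non-trivial connected unipotent group has a non-trivial connected central subgroup. -/
theorem Uni.exists_central (hU : Uni D) (hirr : D.SIrr Set.univ) (hmul : HasMul D) [Nontrivial Γ] :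
    ∃ C : Subgroup Γ, D.IsCl C ∧ D.SIrr C ∧ C ≠ ⊥ ∧ ∀ c ∈ C, ∀ g, c * g = g * c := by
  classical
  have hsep := hU.sep
  obtain ⟨W, _, _, _, σ, hσ, hsolv, hnil⟩ := id hU
  obtain ⟨b, hb, hband⟩ := hU.exists_tri hirr σ hσ.reg
  let P : ℕ → Prop := fun m => 1 ≤ m ∧ ∃ C : Subgroup Γ, C ≤ Tri.U hb m ∧ D.IsCl C ∧ D.SIrr C ∧ C ≠ ⊥
  have htop : Tri.U hb 1 = ⊤ := eq_top_iff.mpr fun g _ => (Tri.mem_U hb).mpr (hband g)
  have h1 : P 1 := ⟨le_rfl, ⊤, htop.ge, fun g _ => Set.mem_univ g, by rwa [Subgroup.coe_top],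
    top_ne_bot⟩
  have hbd : ∀ m, P m → m ≤ finrank k W := fun m ⟨_, C, hC, _, _, hne⟩ => by
    by_contra h
    exact hne (eq_bot_iff.mpr (hC.trans (Tri.U_eq_bot hb hσ.faith (le_of_not_ge h)).le))
  obtain ⟨m, hm, hmax⟩ : ∃ m, P m ∧ ∀ m', P m' → m' ≤ m :=
    ⟨Nat.findGreatest P (finrank k W), Nat.findGreatest_spec (hbd 1 h1) h1, fun m' h =>
      Nat.le_findGreatest (hbd m' h) h⟩
  obtain ⟨hm1, C, hC, hCcl, hCirr, hCne⟩ := hm
  refine ⟨C, hCcl, hCirr, hCne, fun c hc g => ?_⟩
  obtain ⟨C', hC', hC'cl, hC'irr, -, Q, hQ, hcover⟩ :=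
    Cartan.exists_component_in (D := D) (Tri.U hb (m + 1)) (Tri.isCl_U hb hσ.reg _)
  have hbot : C' = ⊥ := by
    by_contra hne
    have := hmax (m + 1) ⟨by omega, C', hC', hC'cl, hC'irr, hne⟩
    omega
  have hfin : ∀ x ∈ Tri.U hb (m + 1), x ∈ Q := fun x hx => by
    obtain ⟨q, hq, h⟩ := hcover x hx
    rw [hbot, Subgroup.mem_bot, inv_mul_eq_one] at h
    exact h ▸ hq
  have hcomm : ∀ y, y * c * y⁻¹ * c⁻¹ ∈ Tri.U hb (m + 1) := fun y => by
    refine Tri.div_mem ?_
    have hy : Tri.Band m (Tri.E b σ c) := (Tri.mem_U hb).mp (hC hc)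
    rw [Retract.E_conj]
    have e1 : Tri.mat b σ y = 1 + Tri.E b σ y := by rw [Tri.E, add_sub_cancel]
    have e2 : Tri.mat b σ y⁻¹ = 1 + Tri.E b σ y⁻¹ := by rw [Tri.E, add_sub_cancel]
    rw [e1, e2, show (1 + Tri.E b σ y) * Tri.E b σ c * (1 + Tri.E b σ y⁻¹) - Tri.E b σ c =
      Tri.E b σ y * Tri.E b σ c + Tri.E b σ c * Tri.E b σ y⁻¹ + Tri.E b σ y * Tri.E b σ c * Tri.E b σ y⁻¹ by
      noncomm_ring]
    refine (Tri.Band.add (Tri.Band.add ?_ ?_) ?_)
    · exact ((hband y).mul hy).mono (by omega)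
    · exact (hy.mul (hband _)).mono (by omega)
    · exact (((hband y).mul hy).mul (hband _)).mono (by omega)
  refine (mul_inv_eq_iff_eq_mul.mp (mul_inv_eq_one.mp (hsep (g * c * g⁻¹ * c⁻¹) 1 fun f hf => ?_))).symm
  let F : Γ → k := fun y => f (y * c * y⁻¹ * c⁻¹)
  have hF : F ∈ D.R := by
    have := D.inv _ (Centraliser.conj_fn_mem hmul c (D.rmul c⁻¹ f hf))
    simpa only [_root_.inv_inv] using this
  have hrange : (Set.range F).Finite := (Q.finite_toSet.image f).subset (by
    rintro _ ⟨y, rfl⟩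
    exact ⟨_, hfin _ (hcomm y), rfl⟩)
  show F g = _
  rw [show F g = F 1 from Diag.const_of_finite hirr ⟨F, hF⟩ hrange g 1]
  show f (1 * c * 1⁻¹ * c⁻¹) = f 1
  simp

/-- A tower is trivial or receives the additive group with a coordinate. -/
theorem twr_line {H : Type u} [AddCommGroup H] [RegSpace k H] {s : ℕ} (h : IsTwr k H s) :
    Subsingleton H ∨ ∃ z : k →+ H, IsRegMap k z ∧ ∃ f, IsReg f ∧ ∀ t, f (z t) = t := by
  cases h with
  | zero => exact Or.inl inferInstance
  | ext c h =>
    refine Or.inr ⟨incl c, isRegMap_incl, fun v => v.fib + c 0 0, isReg_fib.add (isReg_const _), fun t => ?_⟩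
    show (incl c t).fib + c 0 0 = t
    rw [incl_fib, sub_add_cancel]

/-- A non-trivial connected unipotent group contains a central additive group with a coordinate. -/
theorem Uni.exists_line (hU : Uni D) (hirr : D.SIrr Set.univ) (hmul : HasMul D) [Nontrivial Γ] :
    ∃ z : k → Γ, z 0 = 1 ∧ (∀ s t, z (s + t) = z s * z t) ∧ (∀ t g, z t * g = g * z t) ∧
      (∀ f ∈ D.R, ∃ P : Polynomial k, ∀ t, f (z t) = P.eval t) ∧ ∃ h ∈ D.R, ∀ t, h (z t) = t := by
  classical
  obtain ⟨C, hCcl, hCirr, hCne, hCz⟩ := hU.exists_central hirr hmul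
  obtain ⟨W, _, _, _, σ, hσ, hsolv, hnil⟩ := id hU
  let DC := D.restrict C hCcl
  have hDC : DC.SIrr Set.univ :=
    D.sirr_restrict.mpr (by rw [Set.image_univ, Subtype.range_coe_subtype]; exact hCirr)
  have hσC := GenRep.Gen.restrict D hσ C hCcl
  have hmC := hasMul_restrict D hmul C hCcl
  letI : CommGroup C :=
    { (inferInstance : Group C) with mul_comm := fun a b => Subtype.ext (hCz a a.2 b) }
  letI : RegSpace k (Additive C) := ⟨DC.R⟩
  haveI : RegAddGroup k (Additive C) :=
    { reg_add := fun f hf => by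
        obtain ⟨n, x, y, hxy⟩ := hmC ⟨f, hf⟩
        show IsReg fun p : Additive C × Additive C => f (p.1 + p.2)
        rw [show (fun p : Additive C × Additive C => f (p.1 + p.2)) =
          fun p => ∑ i, (x i : C → k) (Additive.toMul p.1) * (y i : C → k) (Additive.toMul p.2) from
          funext fun p => hxy _ _]
        exact IsReg.sum _ fun i _ => ((isRegMap_fst (Y := Additive C) (fun a => (x i : C → k) (Additive.toMul a))
          (x i).2).mul (isRegMap_snd (X := Additive C) (fun a => (y i : C → k) (Additive.toMul a)) (y i).2))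
      reg_neg := fun f hf => DC.inv f hf }
  have hdom : IsDomain DC.R := Open.isDomain hDC
  haveI : IsDomain (Fn k (Additive C)) := hdom
  haveI : Algebra.FiniteType k (Fn k (Additive C)) := DC.finiteType
  have hlow : ∀ f : Fn k (Additive C), ∃ l, Low l f := fun f => exists_low (fun χ hne => funext fun x => by
    obtain ⟨c, hc, -, h0, hadd⟩ := exists_eigen hne
    let ψ₀ : C →* k :=
      { toFun := fun g => χ (Additive.ofMul g)
        map_one' := h0
        map_mul' := fun g h => hadd _ _ }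
    have hreg : Diag.RegChar DC ψ₀.toHomUnits := by
      show (fun g => ψ₀ g) ∈ DC.R
      rw [show (fun g => ψ₀ g) = (c : Additive C → k) from funext fun g => (congrFun hc _).symm]
      exact c.2
    exact congrArg Units.val (Central.char_eq_one DC hσC (hnil (Additive.toMul x).1) hreg)) f
  obtain ⟨T, e, he, he'⟩ := WittU.UnipStruct.exists_tower (X := Additive C) (fun φ => by
      obtain ⟨g, hg⟩ := DC.pts φ
      exact ⟨Additive.ofMul g, hg⟩)
    (fun x y h => Union.sep DC hσC _ _ fun f hf => h ⟨f, hf⟩) hlow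
  rcases twr_line T.isTwr with hT | ⟨ζ, hζ, f, hf, hfζ⟩
  · refine absurd (eq_bot_iff.mpr fun x hx => ?_) hCne
    have h := e.injective (hT.elim (e (Additive.ofMul ⟨x, hx⟩)) (e (Additive.ofMul 1)))
    exact congrArg Subtype.val (Additive.ofMul.injective h)
  let z : k → Γ := fun t => (Additive.toMul (e.symm (ζ t)) : C)
  refine ⟨z, by simp [z], fun s t => by simp [z], fun t g => hCz _ (SetLike.coe_mem _) g, fun F hF => ?_, ?_⟩
  · exact WittU.UnipStruct.exists_poly
      (hζ _ (he' (fun x => F (Additive.toMul x : C)) ⟨F, hF, rfl⟩))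
  · obtain ⟨H, hH, hHe⟩ := he f hf
    refine ⟨H, hH, fun t => ?_⟩
    rw [show H (z t) = f (e (e.symm (ζ t))) from congrFun hHe _, e.apply_symm_apply, hfζ]

/-- A finite set of functions lies in a finite dimensional space of functions stable under right translation. -/
theorem exists_translate_rep (hmul : HasMul D) (F : Finset D.R) :
    ∃ (W : Submodule k D.R) (_ : FiniteDimensional k W) (σ : Representation k Γ W), EndFn D.R (fun g => σ g) ∧
      (∀ f ∈ F, ∃ w : W, ∃ l : Dual k W, ∀ g, l (σ g w) = (f : Γ → k) g) ∧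
      ∀ h, (∀ f ∈ F, ∀ x, (f : Γ → k) (x * h) = (f : Γ → k) x) → (∀ g, h * g = g * h) → σ h = 1 := by
  classical
  choose n a b hab using fun f : D.R => hmul f
  have key : ∀ (f : D.R) (h : Γ), D.rTrans h f = ∑ i, (b f i : Γ → k) h • a f i := fun f h =>
    Subtype.ext (funext fun g => by
      show (f : Γ → k) (g * h) = _
      rw [hab f g h, AddSubmonoidClass.coe_finsetSum, Finset.sum_apply]
      exact Finset.sum_congr rfl fun i _ => mul_comm _ _)
  let W : Submodule k D.R := Submodule.span k (⋃ f ∈ F, Set.range fun h : Γ => D.rTrans h f)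
  have hfd : FiniteDimensional k W := by
    haveI : FiniteDimensional k (Submodule.span k (⋃ f ∈ F, Set.range (a f))) :=
      FiniteDimensional.span_of_finite k (F.finite_toSet.biUnion fun f _ => Set.finite_range _)
    refine Submodule.finiteDimensional_of_le (S₂ := Submodule.span k (⋃ f ∈ F, Set.range (a f))) ?_
    refine Submodule.span_le.mpr ?_
    rintro _ hx
    simp only [Set.mem_iUnion, Set.mem_range] at hx
    obtain ⟨f, hf, h, rfl⟩ := hx
    rw [key]
    exact Submodule.sum_mem _ fun i _ => Submodule.smul_mem _ _ (Submodule.subset_span (Set.mem_biUnion hf ⟨i, rfl⟩))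
  have hstab : ∀ g, ∀ f ∈ W, (D.rTrans g).toLinearMap f ∈ W := by
    intro g
    suffices W ≤ W.comap (D.rTrans g).toLinearMap from fun f hf => this hf
    refine Submodule.span_le.mpr ?_
    rintro _ hx
    simp only [Set.mem_iUnion, Set.mem_range] at hx
    obtain ⟨f, hf, h, rfl⟩ := hx
    refine Submodule.subset_span (Set.mem_biUnion hf ⟨g * h, Subtype.ext (funext fun x => ?_)⟩)
    show (f : Γ → k) (x * (g * h)) = (f : Γ → k) (x * g * h)
    rw [mul_assoc]
  let σ : Representation k Γ W :=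
    { toFun := fun g => (D.rTrans g).toLinearMap.restrict (hstab g)
      map_one' := LinearMap.ext fun w => Subtype.ext (Subtype.ext (funext fun x => by
        show ((w : D.R) : Γ → k) (x * 1) = _
        rw [mul_one]; rfl))
      map_mul' := fun g h => LinearMap.ext fun w => Subtype.ext (Subtype.ext (funext fun x => by
        show ((w : D.R) : Γ → k) (x * (g * h)) = ((w : D.R) : Γ → k) (x * g * h)
        rw [mul_assoc])) }
  refine ⟨W, hfd, σ, fun w l => ?_, fun f hf => ?_, fun h hh hcent => ?_⟩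
  · obtain ⟨l', hl'⟩ := LinearMap.exists_extend l
    rw [show (fun g => l (σ g w)) = ∑ i, l' (a w i) • (b w i : Γ → k) from funext fun g => by
      rw [← hl', Finset.sum_apply]
      show l' (D.rTrans g w) = _
      rw [key, map_sum]
      exact Finset.sum_congr rfl fun i _ => by rw [map_smul, Pi.smul_apply, smul_eq_mul, smul_eq_mul, mul_comm]]
    exact sum_mem fun i _ => D.R.smul_mem (b w i).2 _
  · refine ⟨⟨f, Submodule.subset_span (Set.mem_biUnion hf ⟨1, Subtype.ext (funext fun x => by
      show (f : Γ → k) (x * 1) = _; rw [mul_one])⟩)⟩,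
      (evalR D (1 : Γ)).toLinearMap.comp W.subtype, fun g => ?_⟩
    show (f : Γ → k) (1 * g) = _
    rw [one_mul]
  · refine LinearMap.ext fun ⟨w, hw⟩ => Subtype.ext ?_
    show (D.rTrans h).toLinearMap w = w
    induction hw using Submodule.span_induction with
    | mem w hw =>
      simp only [Set.mem_iUnion, Set.mem_range] at hw
      obtain ⟨f, hf, x, rfl⟩ := hw
      refine Subtype.ext (funext fun y => ?_)
      show (f : Γ → k) (y * h * x) = (f : Γ → k) (y * x)
      rw [mul_assoc, hcent, ← mul_assoc, hh f hf]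
    | zero => rw [map_zero]
    | add u v _ _ hu hv => rw [map_add, hu, hv]
    | smul c u _ hu => rw [map_smul, hu]

/-- The transcendence degree of the field of functions is finite. -/
theorem trdeg_fraction_lt (hirr : D.SIrr Set.univ) :
    haveI := Open.isDomain hirr
    Algebra.trdeg k (FractionRing D.R) < Cardinal.aleph0 := by
  haveI := Open.isDomain hirr
  haveI := D.finiteType
  haveI : Algebra.IsAlgebraic D.R (FractionRing D.R) := IsLocalization.isAlgebraic (FractionRing D.R) (nonZeroDivisors D.R)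
  haveI : FaithfulSMul k D.R := (faithfulSMul_iff_algebraMap_injective _ _).mpr (algebraMap k D.R).injective
  have h := trdeg_add_eq k D.R (A := FractionRing D.R)
  rw [trdeg_eq_zero (R := D.R) (A := FractionRing D.R), add_zero] at h
  rw [← h]
  exact trdeg_lt_aleph0_of_finiteType

/-- **Connected unipotent groups are rational.** -/
theorem Uni.ratGen : ∀ (d : ℕ) {Γ : Type u} [Group Γ] (D : Alg k Γ) (hirr : D.SIrr Set.univ), HasMul D → Uni D →
    haveI := Open.isDomain hirr
    Algebra.trdeg k (FractionRing D.R) ≤ d → RatGen k (FractionRing D.R) := by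
  intro d
  induction d using Nat.strong_induction_on with
  | _ d ih =>
  intro Γ _ D hirr hmul hU hd
  haveI := Open.isDomain hirr
  rcases subsingleton_or_nontrivial Γ with hΓ | hΓ
  · refine RatGen.of_bot fun f => ?_
    have hc : ∀ r : D.R, r = algebraMap k D.R ((r : Γ → k) 1) := fun r => Subtype.ext (funext fun g => by
      rw [hΓ.elim g 1]; rfl)
    obtain ⟨x, y, -, rfl⟩ := IsFractionRing.div_surjective (A := D.R) f
    refine ⟨(x : Γ → k) 1 / (y : Γ → k) 1, ?_⟩
    conv_rhs => rw [hc x, hc y]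
    rw [map_div₀, ← IsScalarTower.algebraMap_apply, ← IsScalarTower.algebraMap_apply]
  classical
  obtain ⟨z, hz0, hzadd, hzc, hzpol, h, hh, hhz⟩ := hU.exists_line hirr hmul
  let ρ : k → D.R →ₐ[k] D.R := fun t => D.rTrans (z t)
  obtain ⟨n, a, b, hab⟩ := hmul ⟨h, hh⟩
  let a' : Fin n → D.R := fun i => ⟨fun g => (a i : Γ → k) g⁻¹, D.inv _ (a i).2⟩
  haveI := D.finiteType
  obtain ⟨G, hG, hslice⟩ := exists_slice ρ
    (AlgHom.ext fun f => Subtype.ext (funext fun g => by
      show (f : Γ → k) (g * z 0) = _; rw [hz0, mul_one]; rfl))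
    (fun s t => AlgHom.ext fun f => Subtype.ext (funext fun g => by
      show (f : Γ → k) (g * z (s + t)) = (f : Γ → k) (g * z s * z t); rw [hzadd, mul_assoc]))
    (fun r => by
      obtain ⟨m, x, y, hxy⟩ := hmul r
      choose P hP using fun i => hzpol _ (y i).2
      refine ⟨∑ i, Polynomial.C (x i) * (P i).map (algebraMap k D.R), fun t => Subtype.ext (funext fun g => ?_)⟩
      rw [Polynomial.eval_finsetSum, AddSubmonoidClass.coe_finsetSum, Finset.sum_apply]
      show (r : Γ → k) (g * z t) = _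
      rw [hxy]
      refine Finset.sum_congr rfl fun i _ => ?_
      rw [Polynomial.eval_mul, Polynomial.eval_C, Polynomial.eval_map, Polynomial.eval₂_at_apply, hP]
      rfl)
    a' b (fun t => Subtype.ext (funext fun g => by
      rw [AddSubmonoidClass.coe_finsetSum, Finset.sum_apply]
      show _ = t
      conv_rhs => rw [← hhz t, ← inv_mul_cancel_left g (z t)]
      exact (hab _ _).symm))
  obtain ⟨W, _, τ, hτ, hτG, hτfix⟩ := exists_translate_rep hmul G
  have hτz : ∀ t, τ (z t) = 1 := fun t =>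
    hτfix _ (fun f hf x => congrFun (congrArg Subtype.val (hG f hf t)) x) (hzc t)
  obtain ⟨bb, hbb, hband⟩ := hU.exists_tri hirr τ hτ
  have hinv := inv_mem_coefAlg τ bb hband
  let D' := qAlg τ bb hirr hτ hinv
  have hirr' : D'.SIrr Set.univ := qAlg_sirr τ bb
  haveI := Open.isDomain hirr'
  have hU' : Uni D' := by
    obtain ⟨V, _, _, _, σ, -, hsolv, -⟩ := id hU
    refine ⟨W, inferInstance, inferInstance, inferInstance, qRep τ, qAlg_gen τ bb,
      solvable_of_surjective (QuotientGroup.mk'_surjective (MonoidHom.ker τ)), fun x => ?_⟩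
    obtain ⟨g, rfl⟩ := QuotientGroup.mk'_surjective _ x
    rw [qRep_mk]
    exact Tri.isNilpotent_of_mem hbb ((Tri.mem_U hbb).mpr (hband g))
  have hle : D'.R.map (qPull τ) ≤ D.R := (map_qPull τ bb).le.trans (coefAlg_le τ bb hτ)
  let p : D'.R →ₐ[k] D.R := ((qPull τ).comp D'.R.val).codRestrict _ fun f => hle ⟨_, f.2, rfl⟩
  have hp : Function.Injective p := fun f f' h => Subtype.ext (qPull_injective τ (congrArg Subtype.val h))
  have hGp : ∀ g ∈ G, g ∈ p.range := fun g hg => by
    obtain ⟨w, l, hwl⟩ := hτG g hg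
    obtain ⟨f, hf, he⟩ := (map_qPull τ bb).ge (endFn_coefAlg τ bb w l)
    exact ⟨⟨f, hf⟩, Subtype.ext (show qPull τ f = _ by
      rw [show qPull τ f = _ from he]; exact funext hwl)⟩
  have hfix : ∀ r ∈ p.range, ∀ t, ρ t r = r := by
    rintro _ ⟨f, rfl⟩ t
    refine Subtype.ext (funext fun g => ?_)
    show (f : _ → k) (QuotientGroup.mk' (MonoidHom.ker τ) (g * z t)) = (f : _ → k) (QuotientGroup.mk' (MonoidHom.ker τ) g)
    rw [map_mul, show QuotientGroup.mk' (MonoidHom.ker τ) (z t) = 1 from (QuotientGroup.eq_one_iff _).mpr (hτz t),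
      mul_one]
  obtain ⟨f, hf, hgen⟩ := hslice p.range hGp hfix
  obtain ⟨e⟩ := adjoin_image_equiv p hp
  have hlt := trdeg_lt_of_transcendental _ f hf (trdeg_fraction_lt hirr)
  rw [← e.trdeg_eq] at hlt
  obtain ⟨d', hd'⟩ := Cardinal.lt_aleph0.mp (trdeg_fraction_lt hirr')
  have hdd : d' < d := by
    have := lt_of_lt_of_le hlt hd
    rw [hd'] at this
    exact_mod_cast this
  refine RatGen.adjoin _ ((ih d' hdd D' hirr' (qAlg_hasMul τ bb) hU' hd'.le).of_equiv e) f hf
    (eq_top_iff.mpr (hgen.ge.trans (IntermediateField.adjoin.mono k _ _ (Set.insert_subset_insert ?_))))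
  exact IntermediateField.subset_adjoin _ _

/-- Connected unipotent groups are rational. -/
theorem Uni.ratGen' (hU : Uni D) (hirr : D.SIrr Set.univ) (hmul : HasMul D) :
    haveI := Open.isDomain hirr
    RatGen k (FractionRing D.R) := by
  obtain ⟨d, hd⟩ := Cardinal.lt_aleph0.mp (trdeg_fraction_lt hirr)
  exact Uni.ratGen d D hirr hmul hU hd.le

end

end Groth.Agent.Lib.Rat85
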