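import Groth.Agent.Lib.Rat85.Unip
import Groth.Agent.Lib.Dyn85.FlatHom
import Groth.Agent.Lib.Dyn85.GLMat
import Groth.Agent.H1.Classical.Apply

/-!
# Groups of matrices strictly raising weights are unipotent
-/

universe u v

namespace Groth.Agent.Lib.Rat85

open Module WithConv Matrix LaurentPolynomial
open Groth.Agent.H1.Classical Groth.Agent.H1.Classical.Kolchin Groth.Agent.H1.Classical.Torus
open Groth.Agent.Lib.Dyn85
open commutatorElement

set_option linter.style.haveILetI false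

noncomputable section

variable {k : Type u} [Field k] {n : ℕ}

/-- Matrices raising weights by at least `j`. -/
def Fil (e : ℤ → Matrix (Fin n) (Fin n) k) (j : ℤ) (N : Matrix (Fin n) (Fin n) k) : Prop :=
  ∀ a b : ℤ, a < b + j → e a * N * e b = 0

section

variable {e : ℤ → Matrix (Fin n) (Fin n) k} {s : Finset ℤ} {i j : ℤ} {N N' : Matrix (Fin n) (Fin n) k}

theorem Fil.mono (h : Fil e j N) (hij : i ≤ j) : Fil e i N := fun a b hab => h a b (by omega)

theorem Fil.add (h : Fil e j N) (h' : Fil e j N') : Fil e j (N + N') := fun a b hab => by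
  rw [mul_add, add_mul, h a b hab, h' a b hab, add_zero]

theorem Fil.neg (h : Fil e j N) : Fil e j (-N) := fun a b hab => by rw [mul_neg, neg_mul, h a b hab, neg_zero]

theorem Fil.sub (h : Fil e j N) (h' : Fil e j N') : Fil e j (N - N') := by
  rw [sub_eq_add_neg]; exact h.add h'.neg

theorem Fil.mul (he : ∀ a, e a * e a = e a) (hs : ∑ a ∈ s, e a = 1) (h : Fil e i N) (h' : Fil e j N') :
    Fil e (i + j) (N * N') := by
  intro a b hab
  have : e a * (N * N') * e b = ∑ c ∈ s, (e a * N * e c) * (e c * N' * e b) := by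
    calc e a * (N * N') * e b = e a * N * (∑ c ∈ s, e c) * N' * e b := by rw [hs, mul_one]; simp only [mul_assoc]
      _ = ∑ c ∈ s, e a * N * e c * N' * e b := by rw [Finset.mul_sum, Finset.sum_mul, Finset.sum_mul]
      _ = _ := Finset.sum_congr rfl fun c _ => by rw [← mul_assoc, ← mul_assoc, mul_assoc _ (e c) (e c), he]
  rw [this]
  refine Finset.sum_eq_zero fun c _ => ?_
  by_cases hc : c < b + j
  · rw [h' c b hc, mul_zero]
  · rw [h a c (by omega), zero_mul]

theorem Fil.eq_zero (hs : ∑ a ∈ s, e a = 1) (h : Fil e j N) (hj : ∀ a ∈ s, ∀ b ∈ s, a < b + j) : N = 0 := by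
  calc N = (∑ a ∈ s, e a) * N * ∑ b ∈ s, e b := by rw [hs, one_mul, mul_one]
    _ = 0 := by
      rw [Finset.sum_mul, Finset.sum_mul]
      refine Finset.sum_eq_zero fun a ha => ?_
      rw [Finset.mul_sum]
      exact Finset.sum_eq_zero fun b hb => h a b (hj a ha b hb)

theorem Fil.pow (he : ∀ a, e a * e a = e a) (hs : ∑ a ∈ s, e a = 1) (h : Fil e 1 N) :
    ∀ m : ℕ, Fil e (m + 1) (N ^ (m + 1))
  | 0 => by simpa using h
  | m + 1 => by
    have := (Fil.pow he hs h m).mul he hs h
    rw [← pow_succ] at this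
    exact this.mono (by push_cast; omega)

/-- Matrices of weight at least one give a solvable group of unipotent elements. -/
theorem solvable_of_fil {Γ : Type v} [Group Γ] (M : Γ →* Matrix (Fin n) (Fin n) k) (hf : Function.Injective M)
    (he : ∀ a, e a * e a = e a) (hs : ∑ a ∈ s, e a = 1) (h : ∀ g, Fil e 1 (M g - 1)) :
    Group.IsSolvable Γ ∧ ∀ g, IsNilpotent (M g - 1) := by
  obtain ⟨J, hJ⟩ : ∃ J : ℕ, ∀ a ∈ s, ∀ b ∈ s, a < b + (J : ℤ) := by
    refine ⟨2 * s.sup Int.natAbs + 1, fun a ha b hb => ?_⟩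
    have h1 := Finset.le_sup (f := Int.natAbs) ha
    have h2 := Finset.le_sup (f := Int.natAbs) hb
    omega
  refine ⟨?_, fun g => ⟨J + 1, ((h g).pow he hs J).eq_zero hs fun a ha b hb => by have := hJ a ha b hb; omega⟩⟩
  have hinv : ∀ (j : ℤ), 1 ≤ j → ∀ g, Fil e j (M g - 1) → Fil e j (M g⁻¹ - 1) := by
    intro j hj g hg
    have h1 : M g⁻¹ - 1 = -(M g - 1) - (M g - 1) * (M g⁻¹ - 1) := by
      rw [mul_sub, sub_mul, ← map_mul, mul_inv_cancel, map_one]
      noncomm_ring
    rw [h1]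
    exact hg.neg.sub ((hg.mul he hs (h g⁻¹)).mono (by omega))
  have hone : ∀ (j : ℤ) (g g' : Γ), 1 ≤ j → Fil e j (M g - 1) → Fil e j (M g' - 1) → Fil e j (M (g * g') - 1) := by
    intro j g g' hj hg hg'
    rw [map_mul, show M g * M g' - 1 = (M g - 1) + (M g' - 1) + (M g - 1) * (M g' - 1) by noncomm_ring]
    exact (hg.add hg').add ((hg.mul he hs hg').mono (by omega))
  let F : ℕ → Subgroup Γ := fun j =>
    { carrier := {g | Fil e ((j : ℤ) + 1) (M g - 1)}
      one_mem' := fun a b _ => by rw [map_one, sub_self, mul_zero, zero_mul]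
      mul_mem' := fun {g g'} hg hg' => hone _ g g' (by omega) hg hg'
      inv_mem' := fun {g} hg => hinv _ (by omega) g hg }
  have key : ∀ m, derivedSeries Γ m ≤ F m := by
    intro m
    induction m with
    | zero => exact fun g _ => by simpa [F] using h g
    | succ m ih =>
      rw [derivedSeries_succ, Subgroup.commutator_le]
      intro g₁ h₁ g₂ h₂
      show Fil e _ (M ⁅g₁, g₂⁆ - 1)
      have h1 : Fil e ((m : ℤ) + 1) (M g₁ - 1) := ih h₁
      have h2 : Fil e ((m : ℤ) + 1) (M g₂ - 1) := ih h₂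
      rw [commutatorElement_def, show g₁ * g₂ * g₁⁻¹ * g₂⁻¹ = g₁ * g₂ * (g₂ * g₁)⁻¹ by group, map_mul]
      have hc : M (g₁ * g₂) * M (g₂ * g₁)⁻¹ - 1 =
          (M (g₁ * g₂) - M (g₂ * g₁)) + (M (g₁ * g₂) - M (g₂ * g₁)) * (M (g₂ * g₁)⁻¹ - 1) := by
        rw [mul_sub, mul_one, sub_mul, ← map_mul M (g₂ * g₁), mul_inv_cancel, map_one]
        noncomm_ring
      have hd : Fil e ((m : ℤ) + 2) (M (g₁ * g₂) - M (g₂ * g₁)) := by
        rw [map_mul, map_mul, show M g₁ * M g₂ - M g₂ * M g₁ =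
          (M g₁ - 1) * (M g₂ - 1) - (M g₂ - 1) * (M g₁ - 1) by noncomm_ring]
        exact ((h1.mul he hs h2).mono (by omega)).sub ((h2.mul he hs h1).mono (by omega))
      rw [hc]
      push_cast
      exact (hd.mono (by omega)).add ((hd.mul he hs (h (g₂ * g₁)⁻¹)).mono (by omega))
  refine (Group.isSolvable_def Γ).mpr ⟨J, eq_bot_iff.mpr fun g hg => ?_⟩
  rw [Subgroup.mem_bot]
  refine hf ((sub_eq_zero.mp (Fil.eq_zero hs (key J hg) fun a ha b hb => ?_)).trans (map_one M).symm)
  have := hJ a ha b hb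
  omega

end

variable [IsAlgClosed k] {B : Type u} [CommRing B] [HopfAlgebra k B] [IsDomain B] [Algebra.FiniteType k B]

/-- A closed subgroup of `GL_n` with weights at least one is unipotent. -/
theorem uni_of_fil (π : CoordGrp.GLn n k →ₐc[k] B) (hπ : Function.Surjective π)
    {e : ℤ → Matrix (Fin n) (Fin n) k} {s : Finset ℤ} (he : ∀ a, e a * e a = e a) (hs : ∑ a ∈ s, e a = 1)
    (h : ∀ g : HopfPts.Pt k B, Fil e 1 (GLMat.toMat (pull π g) - 1)) : Uni (HopfPts.D k B) := by
  classical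
  let M : HopfPts.Pt k B →* Matrix (Fin n) (Fin n) k := GLMat.toMat.comp (pull π)
  have hMinj : Function.Injective M := GLMat.toMat_injective.comp (pull_injective hπ)
  obtain ⟨hsolv, hnil⟩ := solvable_of_fil M hMinj he hs h
  let σ : Representation k (HopfPts.Pt k B) (Fin n → k) :=
    (Matrix.toLinAlgEquiv' (R := k) (n := Fin n)).toAlgHom.toRingHom.toMonoidHom.comp M
  have hσinj : Function.Injective σ := (Matrix.toLinAlgEquiv' (R := k) (n := Fin n)).injective.comp hMinj
  have hσv : ∀ g v, σ g v = Matrix.mulVec (M g) v := fun g v => Matrix.toLinAlgEquiv'_apply _ v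
  have hreg : EndFn (HopfPts.D k B).R (fun g => σ g) := by
    intro v l
    rw [show (fun g => l (σ g v)) = HopfPts.ev k B
      (∑ i, ∑ j, (l (fun m => if i = m then 1 else 0) * v j) • π (CoordGrp.GLn.X i j)) from funext fun g => by
      rw [hσv, LinearMap.pi_apply_eq_sum_univ l, map_sum, Finset.sum_apply]
      refine Finset.sum_congr rfl fun i _ => ?_
      rw [map_sum, Finset.sum_apply, smul_eq_mul, Matrix.mulVec, dotProduct, Finset.sum_mul]
      refine Finset.sum_congr rfl fun j _ => ?_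
      rw [map_smul, Pi.smul_apply, smul_eq_mul, show M g i j = HopfPts.ev k B (π (CoordGrp.GLn.X i j)) g from rfl]
      ring]
    exact ⟨_, rfl⟩
  let bb := Pi.basisFun k (Fin n)
  have hentry : ∀ i j, (fun g => M g i j) ∈ coefAlg σ bb := fun i j => by
    rw [show (fun g => M g i j) = fun g => bb.coord i (σ g (bb j)) from funext fun g => by
      simp [bb, hσv, Matrix.mulVec_single]]
    exact coef_mem σ bb i j
  have hdinv : HopfPts.ev k B (π CoordGrp.GLn.Dinv) ∈ coefAlg σ bb := by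
    obtain ⟨J, hJ⟩ : ∃ J : ℕ, ∀ g, (M g - 1) ^ J = 0 := ⟨n, fun g => by
      obtain ⟨N, hN⟩ := hnil g
      have h1 := (Matrix.isNilpotent_charpoly_sub_pow_of_isNilpotent ⟨N, hN⟩).eq_zero
      rw [sub_eq_zero] at h1
      have h2 := Matrix.aeval_self_charpoly (M g - 1)
      rw [h1, map_pow, Polynomial.aeval_X, Fintype.card_fin] at h2
      exact h2⟩
    let N : Matrix (Fin n) (Fin n) (coefAlg σ bb) :=
      ∑ m ∈ Finset.range J, (1 - Matrix.of fun i j => ⟨_, hentry i j⟩) ^ m
    suffices HopfPts.ev k B (π CoordGrp.GLn.Dinv) = ((N.det : coefAlg σ bb) : _ → k) by rw [this]; exact N.det.2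
    funext g
    let ev : coefAlg σ bb →+* k := (Pi.evalRingHom (fun _ => k) g).comp (coefAlg σ bb).val.toRingHom
    have hN : N.map ev = ∑ m ∈ Finset.range J, (1 - M g) ^ m := by
      show ev.mapMatrix N = _
      rw [map_sum]
      refine Finset.sum_congr rfl fun m _ => ?_
      rw [map_pow, map_sub, map_one]
      rfl
    have hmul : M g * N.map ev = 1 := by
      have h1 := mul_neg_geom_sum (1 - M g) J
      rw [sub_sub_cancel, show (1 - M g) ^ J = (-1) ^ J * (M g - 1) ^ J by
        rw [← (Commute.neg_one_left _).mul_pow, neg_one_mul, neg_sub], hJ, mul_zero, sub_zero] at h1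
      rw [hN]; exact h1
    have hd : (M g).det * (N.map ev).det = 1 := by rw [← Matrix.det_mul, hmul, Matrix.det_one]
    have hd' : g.ofConv (π CoordGrp.GLn.Dinv) * (M g).det = 1 := by
      have h1 : (g.ofConv : B →ₐ[k] k) (π (CoordGrp.GLn.det * CoordGrp.GLn.Dinv)) = 1 := by
        rw [CoordGrp.GLn.det_mul_Dinv, map_one, map_one]
      rw [map_mul, map_mul, CoordGrp.GLn.det_eq] at h1
      rw [mul_comm]
      refine Eq.trans ?_ h1
      congr 1
      refine Eq.trans ?_ (((g.ofConv).comp (π : CoordGrp.GLn n k →ₐ[k] B)).map_det _).symm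
      rfl
    show g.ofConv _ = _
    rw [left_inv_eq_right_inv hd' hd]
    exact (ev.map_det N).symm
  refine ⟨Fin n → k, inferInstance, inferInstance, inferInstance, σ, ⟨hreg, hσinj, ?_⟩, hsolv, fun g => ?_⟩
  · rintro _ ⟨b, rfl⟩
    obtain ⟨x, rfl⟩ := hπ b
    have hx : x ∈ Algebra.adjoin k (Set.range (fun p : Fin n × Fin n => CoordGrp.GLn.X (k := k) p.1 p.2) ∪
        {CoordGrp.GLn.Dinv}) := by
      rw [show _ = (⊤ : Subalgebra k (CoordGrp.GLn n k)) from GLMat.adjoin_gens]; trivial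
    have hle : coefAlg σ bb ≤ Algebra.adjoin k {f | ∃ (w : Fin n → k) (l : Dual k (Fin n → k)), f = fun g => l (σ g w)} :=
      Algebra.adjoin_mono (by rintro _ ⟨⟨i, j⟩, rfl⟩; exact ⟨bb j, bb.coord i, rfl⟩)
    refine hle ?_
    refine (Algebra.adjoin_le (S := (coefAlg σ bb).comap ((HopfPts.ev k B).comp (π : CoordGrp.GLn n k →ₐ[k] B))) ?_ hx :)
    rintro y (⟨⟨i, j⟩, rfl⟩ | rfl)
    · exact hentry i j
    · exact hdinv
  · obtain ⟨N, hN⟩ := hnil g
    refine ⟨N, ?_⟩
    have h2 := congrArg (Matrix.toLinAlgEquiv' (R := k) (n := Fin n)) hN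
    rw [map_pow, map_sub, map_one, map_zero] at h2
    exact h2

end

end Groth.Agent.Lib.Rat85
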